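import Cfsg.Agent.Mrg.Omega.Node.MulG
import Cfsg.Agent.Mrg.Omega.NOne.LemmaT
import Cfsg.Agent.Omega.NoFF.Basic
import Cfsg.Agent.Mrg.Omega.EK3.Base
import Cfsg.Agent.Mrg.Omega.EK3.Rank
import Cfsg.Agent.ZN.Facts
import Cfsg.Agent.Mrg.Omega.EDel.QP
import Cfsg.Agent.Mrg.Omega.OM.Lev.Main
import Cfsg.Agent.Involutions.BaerSuzuki
import Cfsg.Agent.ZN.ChoiceSit
import Cfsg.Agent.Mrg.Omega.ML.Ex.Two
import Cfsg.Agent.Mrg.Omega.TC.No
import Cfsg.Agent.Mrg.Omega.NOThreeL.JQ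

-- merged: Cfsg.Agent.Mrg.Omega.ESOne.Base
section

section


/-!
# THEOREM S (helper787, #23621), step (0) over `Sk0`: port of helper865's `EK3/Base.lean`

* `Sk0.cj_z` : `N_G(B)` permutes the `z i`;
* `Sk0.o2_CT_le_B`, `Sk0.o2_CT_le_cent`, `Sk0.o2_CT_le_of_le`;
* `Sk0.char2_CT`, `Sk0.ET_le_zc`, `Sk0.ET_sq`, `Sk0.ET_comm`, `Sk0.ET_le_o2`.
-/

set_option autoImplicit false
set_option linter.unusedSectionVars false

namespace Cfsg.Agent.Omega.ESOne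

open Subgroup Cfsg Cfsg.Agent.ZN.ChoiceBase
open Cfsg.Agent.ZN (zc zl o2)
open Cfsg.Agent.ZN.ChoiceSit (Syl)
open Cfsg.Agent.Omega.NO3S.EThree.Frame (Bg Fg)
open Cfsg.Agent.Omega.EK3 (CT mem_CT CT_mono ET CT_compl_le CT_compl_le' CT_norm_ET ZJ_le_ET V_le_ET)
open scoped Pointwise

universe u

variable {G : Type u} [Group G] [Finite G] {S : Sylow 2 G} {K B ZJ Q V : Subgroup G} {ι : Type}
  {L W Z C : ι → Subgroup G} {z : ι → G} {T : Set ι}

namespace Sk0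

variable (h : Sk0 S K B ZJ Q V L W Z C z)
include h

/-- `ZJ = ∏ Z i` -/
theorem ZJ_le [Finite ι] : ZJ ≤ ⨆ i, Z i := by
  classical
  have : Fintype ι := Fintype.ofFinite ι
  have key : ∀ s : Finset ι, ∀ v ∈ ZJ, ∃ w ∈ (⨆ i, Z i), w⁻¹ * v ∈ ZJ ∧ ∀ i ∈ s, w⁻¹ * v ∈ C i := by
    intro s
    induction s using Finset.induction_on with
    | empty => exact fun v hv => ⟨1, one_mem _, by simpa using hv, fun i hi => by simp at hi⟩
    | insert j s hj ih =>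
      intro v hv
      obtain ⟨w, hw, hwV, hwC⟩ := ih v hv
      obtain ⟨a, ha, c, hc, hcJ, e⟩ := h.fr.split_ZJ j hwV
      have e1 : (w * a)⁻¹ * v = a⁻¹ * (w⁻¹ * v) := by group
      have e2 : a⁻¹ * (w⁻¹ * v) = c := by rw [e]; group
      refine ⟨w * a, mul_mem hw ((le_iSup Z j) ha), by rw [e1, e2]; exact hcJ, fun i hi => ?_⟩
      rw [e1]
      rcases Finset.mem_insert.1 hi with rfl | hi
      · rw [e2]
        exact hc
      · have hij : i ≠ j := fun e => hj (e ▸ hi)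
        exact mul_mem (inv_mem (h.fr.WjC i j hij ((h.fr.blk j).ZV ha))) (hwC i hi)
  intro v hv
  obtain ⟨w, hw, hwV, hwC⟩ := key Finset.univ v hv
  have h1 := h.fr.C0 (w⁻¹ * v) (h.fr.ZJV hwV) fun i => hwC i (Finset.mem_univ i)
  have h2 : v = w := (inv_mul_eq_one.1 h1).symm
  rw [h2]
  exact hw

theorem z_mem_Z (i : ι) : z i ∈ Z i := (h.hz i _).2 (Or.inr rfl)

theorem z_mem (i : ι) : z i ∈ ZJ := h.fr.Z_le i (h.z_mem_Z i)

theorem Z_ne (i : ι) : Z i ≠ ⊥ := by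
  intro e
  have h1 := h.fr.cardZ i
  rw [e, card_bot] at h1
  exact absurd (h.fr.blk i).one (by omega)

theorem z_ne (i : ι) : z i ≠ 1 := by
  intro e
  apply h.Z_ne i
  rw [eq_bot_iff]
  intro x hx
  rcases (h.hz i x).1 hx with e1 | e1
  · exact mem_bot.2 e1
  · exact mem_bot.2 (e1.trans e)

theorem z_sq (i : ι) : z i ^ 2 = 1 := h.fr.Vsq (h.fr.ZJV (h.z_mem i))

/-- an element of `Z i` other than `1` is `z i` -/
theorem eq_z {i : ι} {x : G} (hx : x ∈ Z i) (hx1 : x ≠ 1) : x = z i := ((h.hz i x).1 hx).resolve_left hx1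

theorem mem_cent_ZJ [Finite ι] {x : G} (hx : ∀ i, x * z i = z i * x) : x ∈ centralizer (ZJ : Set G) := by
  have h1 : ZJ ≤ centralizer ({x} : Set G) := by
    refine h.ZJ_le.trans (iSup_le fun i y hy => ?_)
    rw [mem_centralizer_singleton_iff]
    rcases (h.hz i y).1 hy with rfl | rfl
    · simp
    · exact (hx i).symm
  rw [mem_centralizer_iff]
  exact fun y hy => mem_centralizer_singleton_iff.1 (h1 hy)

theorem cent_le_CT : centralizer (ZJ : Set G) ≤ CT z T := by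
  refine centralizer_le ?_
  rintro _ ⟨l, -, rfl⟩
  exact h.z_mem l

theorem B_le_cent : B ≤ centralizer (ZJ : Set G) := by
  intro b hb
  rw [mem_centralizer_iff]
  exact fun v hv => (((h.fr.mem_ZJ v).1 hv).2 b hb).symm

/-- `L i ≤ C_T` for `i ∉ T` -/
theorem L_le_CT {i : ι} (hi : i ∉ T) : L i ≤ CT z T := by
  intro x hx
  rw [mem_CT]
  intro l hl
  have hil : i ≠ l := fun e => hi (e ▸ hl)
  exact h.fr.LC i x hx (z l) (h.z_mem l) (h.fr.WjC i l hil ((h.fr.blk l).ZV (h.z_mem_Z l)))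

theorem bau_two : IsPGroup 2 B := h.lb.Bp

theorem le_norm_B {R : Subgroup G} (hR : IsPGroup 2 R) (hB : B ≤ R) : R ≤ normalizer (B : Set G) :=
  h.lb.weakNormal R hR hB

theorem syl_B : Syl B (centralizer (ZJ : Set G)) := h.lb.syl

theorem norm_ZJ : normalizer (B : Set G) ≤ normalizer (ZJ : Set G) := h.lb.nrm B h.bau_two h.lb.KB

theorem block (i : ι) : LemmaK.Block 2 B (L i) (W i) :=
  (h.fr.blk i).toBlock (h.fr.cardZ i) h.lb.Bp h.lb.weakNormal

theorem fbl (i : ι) : Node.MultiOf.FBl B (L i) (W i) := ⟨⟨_, _, h.fr.blk i⟩, h.block i⟩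

theorem mem_Z_of_mem_W {i : ι} {x : G} (hx : x ∈ W i) (hxJ : x ∈ ZJ) : x ∈ Z i :=
  (h.fr.blk i).mem_Z_iff.2 ⟨hx, fun b hb => ((h.fr.mem_ZJ x).1 hxJ).2 b hb⟩

/-- `N_G(B)` permutes the `z i` and the `W i`. -/
theorem cj_z {g : G} (hg : g ∈ normalizer (B : Set G)) (i : ι) : ∃ j, g * z i * g⁻¹ = z j ∧ cj g (W i) = W j := by
  obtain ⟨j, hj, -⟩ := h.uni _ _ ((h.fbl i).conj hg)
  refine ⟨j, h.eq_z (h.mem_Z_of_mem_W ?_ ?_) (fun e => h.z_ne i (conj_eq_one_iff.1 e)), hj⟩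
  · rw [← hj]
    exact ⟨z i, (h.fr.blk i).ZV (h.z_mem_Z i), rfl⟩
  · exact (mem_normalizer_iff.1 (h.norm_ZJ hg) _).1 (h.z_mem i)

theorem cj_Z {g : G} (hg : g ∈ normalizer (B : Set G)) (i : ι) : ∃ j, g * z i * g⁻¹ = z j := by
  obtain ⟨j, hj, -⟩ := h.cj_z hg i
  exact ⟨j, hj⟩

theorem z_inj {i j : ι} (e : z i = z j) : i = j := by
  by_contra hij
  have h1 : z i ∈ W i ⊓ C i := mem_inf.2 ⟨(h.fr.blk i).ZV (h.z_mem_Z i), by
    rw [e]; exact h.fr.WjC i j hij ((h.fr.blk j).ZV (h.z_mem_Z j))⟩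
  rw [h.fr.dir i, mem_bot] at h1
  exact h.z_ne i h1

theorem Z_cent_L (i : ι) {x : G} (hz : x ∈ Z i) (hz1 : x ≠ 1) : x ∉ centralizer (L i : Set G) := by
  intro hzc
  obtain ⟨l, hl, hne, -⟩ := (h.fr.blk i).exists_mv
  have h1 := (h.fr.blk i).nat_tri (h.fr.cardZ i) hl hne
  have h2 : x ∈ cj l (Z i) ⊓ Z i := by
    refine mem_inf.2 ⟨?_, hz⟩
    rw [mem_cj]
    have h3 := mem_centralizer_iff.1 hzc l hl
    have h4 : l⁻¹ * x * l = x := by
      calc l⁻¹ * x * l = l⁻¹ * (x * l) := by group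
        _ = l⁻¹ * (l * x) := by rw [h3]
        _ = x := by group
    rwa [h4]
  rw [h1, mem_bot] at h2
  exact hz1 h2

/-- some `ρ ∈ L i` moves `z i` -/
theorem exists_rho (i : ι) : ∃ ρ ∈ L i, ρ * z i * ρ⁻¹ ∈ W i ∧ ρ * z i * ρ⁻¹ ∉ ZJ := by
  have h1 := h.Z_cent_L i (h.z_mem_Z i) (h.z_ne i)
  rw [mem_centralizer_iff] at h1
  push Not at h1
  obtain ⟨ρ, hρ, hne⟩ := h1
  have hW : ρ * z i * ρ⁻¹ ∈ W i := (h.fr.blk i).nV ρ hρ _ ((h.fr.blk i).ZV (h.z_mem_Z i))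
  refine ⟨ρ, hρ, hW, fun hJ => hne ?_⟩
  have h2 := h.eq_z (h.mem_Z_of_mem_W hW hJ) (fun e => h.z_ne i (conj_eq_one_iff.1 e))
  exact mul_inv_eq_iff_eq_mul.1 h2

variable (T)

/-- `O₂(C_T) ≤ N_G(B)` -/
theorem o2_CT_norm : o2 (CT z T) ≤ normalizer (B : Set G) := by
  have hB : B ≤ normalizer (o2 (CT z T) : Set G) :=
    ((h.B_le_cent).trans (h.cent_le_CT)).trans (MinSimple.VModule.le_normalizer_o2 _)
  have h1 : IsPGroup 2 (B ⊔ o2 (CT z T) : Subgroup G) :=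
    IsPGroup.to_sup_of_normal_right' h.bau_two (MinSimple.VModule.o2_isPGroup _) hB
  exact le_sup_right.trans (h.le_norm_B h1 le_sup_left)

/-- **`O₂(C_T)` centralises `ZJ`** -/
theorem o2_CT_le_cent [Finite ι] : o2 (CT z T) ≤ centralizer (ZJ : Set G) := by
  intro t ht
  have hle : o2 (CT z T) ≤ CT z T := Cfsg.Agent.ZN.o2_le _
  have hN := h.o2_CT_norm T
  have hCn : CT z T ≤ normalizer (o2 (CT z T) : Set G) := MinSimple.VModule.le_normalizer_o2 _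
  refine h.mem_cent_ZJ fun i => ?_
  by_cases hi : i ∈ T
  · exact mem_CT.1 (hle ht) i hi
  obtain ⟨j, hj⟩ := h.cj_Z (hN ht) i
  by_cases hji : j = i
  · rw [hji] at hj
    exact mul_inv_eq_iff_eq_mul.1 hj
  exfalso
  obtain ⟨m, hm⟩ := h.cj_Z (inv_mem (hN ht)) i
  rw [inv_inv] at hm
  have hmi : i ≠ m := by
    rintro rfl
    apply hji
    refine h.z_inj ?_
    rw [← hj]
    calc t * z i * t⁻¹ = t * (t⁻¹ * z i * t) * t⁻¹ := by rw [hm]
      _ = z i := by group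
  obtain ⟨ρ, hρ, hρW, hρJ⟩ := h.exists_rho i
  have hρC : ρ ∈ CT z T := h.L_le_CT hi hρ
  have hg : t * (ρ * t⁻¹ * ρ⁻¹) ∈ o2 (CT z T) :=
    mul_mem ht ((mem_normalizer_iff.1 (hCn hρC) _).1 (inv_mem ht))
  have hgJ := h.norm_ZJ (hN hg)
  have hρm : ρ * z m = z m * ρ :=
    h.fr.LC i ρ hρ (z m) (h.z_mem m) (h.fr.WjC i m hmi ((h.fr.blk m).ZV (h.z_mem_Z m)))
  have e : (t * (ρ * t⁻¹ * ρ⁻¹)) * (ρ * z i * ρ⁻¹) * (t * (ρ * t⁻¹ * ρ⁻¹))⁻¹ = z i := by
    calc (t * (ρ * t⁻¹ * ρ⁻¹)) * (ρ * z i * ρ⁻¹) * (t * (ρ * t⁻¹ * ρ⁻¹))⁻¹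
        = t * (ρ * (t⁻¹ * z i * t) * ρ⁻¹) * t⁻¹ := by group
      _ = t * (ρ * z m * ρ⁻¹) * t⁻¹ := by rw [hm]
      _ = t * z m * t⁻¹ := by rw [hρm, mul_inv_cancel_right]
      _ = t * (t⁻¹ * z i * t) * t⁻¹ := by rw [hm]
      _ = z i := by group
  apply hρJ
  refine (mem_normalizer_iff.1 hgJ _).2 ?_
  rw [e]
  exact h.z_mem i

/-- **`O₂(C_T) ≤ B`** -/
theorem o2_CT_le_B [Finite ι] : o2 (CT z T) ≤ B := by
  have hB : B ≤ normalizer (o2 (CT z T) : Set G) :=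
    ((h.B_le_cent).trans (h.cent_le_CT)).trans (MinSimple.VModule.le_normalizer_o2 _)
  have h1 : IsPGroup 2 (B ⊔ o2 (CT z T) : Subgroup G) :=
    IsPGroup.to_sup_of_normal_right' h.bau_two (MinSimple.VModule.o2_isPGroup _) hB
  have h2 := h.syl_B.2.2 _ (sup_le h.syl_B.1 (h.o2_CT_le_cent T)) h1 le_sup_left
  exact le_sup_right.trans h2.le

/-- `O₂(C_T) ≤ O₂(X)` for `C(ZJ) ≤ X ≤ C_T` -/
theorem o2_CT_le_of_le [Finite ι] {X : Subgroup G} (h1 : centralizer (ZJ : Set G) ≤ X) (h2 : X ≤ CT z T) :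
    o2 (CT z T) ≤ o2 X :=
  MinSimple.Basic.o2_normal_le_o2 ((h.o2_CT_le_cent T).trans h1) h2

theorem o2_CT_le_o2 [Finite ι] : o2 (CT z T) ≤ o2 (centralizer (ZJ : Set G)) :=
  h.o2_CT_le_of_le T le_rfl (h.cent_le_CT)

variable {T}

/-- `C_T` has characteristic 2 -/
theorem char2_CT (hT : T.Nonempty) : CT z T ⊓ centralizer (o2 (CT z T) : Set G) ≤ o2 (CT z T) := by
  have e : CT z T = centralizer ((closure (z '' T) : Subgroup G) : Set G) := (centralizer_closure _).symm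
  have hle : closure (z '' T) ≤ ZJ := by
    rw [closure_le]
    rintro _ ⟨l, -, rfl⟩
    exact h.z_mem l
  rw [e]
  refine NOne.LemmaT.char2_centralizer h.char2
    (h.bau_two.to_le ((hle.trans h.fr.ZJV).trans h.fr.VB)) ?_
  obtain ⟨l, hl⟩ := hT
  intro e1
  have h1 : z l ∈ closure (z '' T) := subset_closure ⟨l, hl, rfl⟩
  rw [e1, mem_bot] at h1
  exact h.z_ne l h1

theorem ZJ_le_zc [Finite ι] (hT : T.Nonempty) : ZJ ≤ zc (o2 (CT z T)) := by
  have h1 : ZJ ≤ centralizer (o2 (CT z T) : Set G) := le_centralizer_iff.1 (h.o2_CT_le_cent T)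
  have h2 : ZJ ≤ CT z T := by
    intro x hx
    rw [mem_CT]
    exact fun l _ => h.fr.Vc (h.fr.ZJV hx) (h.fr.ZJV (h.z_mem l))
  intro x hx
  exact mem_zc.2 ⟨h.char2_CT hT ⟨h2 hx, h1 hx⟩, h.fr.Vsq (h.fr.ZJV hx), fun y hy =>
    mem_centralizer_iff.1 (h1 hx) y hy⟩

/-- **`E_T ≤ Ω₁Z(O₂(C_T))`** -/
theorem ET_le_zc [Finite ι] (hT : T.Nonempty) : ET ZJ z T ≤ zc (o2 (CT z T)) := by
  have hCn : CT z T ≤ normalizer (o2 (CT z T) : Set G) := MinSimple.VModule.le_normalizer_o2 _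
  refine NoFF.Basic.V_le fun p hp x hx => ?_
  rw [NoFF.Basic.mem_conj] at hx
  have h1 := h.ZJ_le_zc hT hx
  rw [mem_zc] at h1 ⊢
  obtain ⟨h2, h3, h4⟩ := h1
  have e : x = p * (p⁻¹ * x * p) * p⁻¹ := by group
  refine ⟨?_, ?_, fun y hy => ?_⟩
  · rw [e]
    exact (mem_normalizer_iff.1 (hCn hp) _).1 h2
  · rw [e, conj_pow, h3, mul_one, mul_inv_cancel]
  · have h5 : p⁻¹ * y * p ∈ o2 (CT z T) := by
      have := (mem_normalizer_iff.1 (hCn (inv_mem hp)) y).1 hy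
      rwa [inv_inv] at this
    have h6 := h4 _ h5
    calc y * x = p * ((p⁻¹ * y * p) * (p⁻¹ * x * p)) * p⁻¹ := by group
      _ = p * ((p⁻¹ * x * p) * (p⁻¹ * y * p)) * p⁻¹ := by rw [h6]
      _ = x * y := by group

theorem ET_le_o2 [Finite ι] (hT : T.Nonempty) : ET ZJ z T ≤ o2 (CT z T) :=
  fun _ hx => (mem_zc.1 (h.ET_le_zc hT hx)).1

/-- `E_T ≤ O₂(X)` for `C(ZJ) ≤ X ≤ C_T` -/
theorem ET_le_of_le [Finite ι] (hT : T.Nonempty) {X : Subgroup G} (h1 : centralizer (ZJ : Set G) ≤ X)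
    (h2 : X ≤ CT z T) : ET ZJ z T ≤ o2 X := (h.ET_le_o2 hT).trans (h.o2_CT_le_of_le T h1 h2)

/-- `E_T ≤ O₂(C(ZJ))` -/
theorem ET_le_O [Finite ι] (hT : T.Nonempty) : ET ZJ z T ≤ o2 (centralizer (ZJ : Set G)) :=
  (h.ET_le_o2 hT).trans (h.o2_CT_le_o2 T)

theorem ET_sq [Finite ι] (hT : T.Nonempty) {x : G} (hx : x ∈ ET ZJ z T) : x ^ 2 = 1 :=
  (mem_zc.1 (h.ET_le_zc hT hx)).2.1

theorem ET_comm [Finite ι] (hT : T.Nonempty) {x y : G} (hx : x ∈ ET ZJ z T) (hy : y ∈ ET ZJ z T) :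
    x * y = y * x := ((mem_zc.1 (h.ET_le_zc hT hx)).2.2 y (h.ET_le_o2 hT hy)).symm

theorem ET_ab [Finite ι] (hT : T.Nonempty) : ET ZJ z T ≤ centralizer (ET ZJ z T : Set G) := by
  intro x hx
  rw [mem_centralizer_iff]
  exact fun y hy => h.ET_comm hT hy hx

/-- `N_i ≤ O₂(Y_j)` (`i, j` arbitrary) if some index differs from `i` and `j` -/
theorem N_le_o2 [Finite ι] {i j : ι} (hT : (({i, j} : Set ι)ᶜ).Nonempty) :
    NoFF.Basic.V (zpowers (z i)) (CT z {i}ᶜ) ≤ o2 (CT z {j}ᶜ) :=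
  (V_le_ET (zpowers_le.2 (h.z_mem i)) CT_compl_le).trans
    (h.ET_le_of_le hT (h.cent_le_CT) CT_compl_le')


end Sk0

end Cfsg.Agent.Omega.ESOne

end

section


/-!
# THEOREM S'' : the fields of `ESym.CoreS.Core` over the small frame `Sk0`

`D = C_G(ZJ)`, `O = O₂(D)`, `Y j = ⟨D, L j⟩`, `N j = ⟨z j ^ (Y j)⟩`.

* `Sk0.cap` : `C_(Y j)(z j) ≤ D`;  `Sk0.syl_Y` : `B` is a Sylow 2-subgroup of `Y j`;
* `Sk0.OY`, `Sk0.OZ`, `Sk0.eab`, `Sk0.NE`, `Sk0.YN`, `Sk0.YQ`, `Sk0.Nel`, `Sk0.NO`.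
-/

set_option autoImplicit false
set_option linter.unusedSectionVars false

namespace Cfsg.Agent.Omega.ESOne

open Subgroup Cfsg Cfsg.Agent.ZN.ChoiceBase
open Cfsg.Agent.ZN (zc zl o2)
open Cfsg.Agent.ZN.ChoiceSit (Syl)
open Cfsg.Agent.Omega.EK3 (CT mem_CT CT_mono ET CT_norm_ET ZJ_le_ET)
open Cfsg.Agent.Omega.EK3.StarE (EE le_EE norm_EE EE_le cj_le_EE)
open Cfsg.Agent.Omega.ESym.CoreS (EI)
open Cfsg.Agent.MinSimple.VModule (o2_isPGroup le_o2 le_normalizer_o2)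

universe u

variable {G : Type u} [Group G] [Finite G] {S : Sylow 2 G} {K B ZJ Q V : Subgroup G} {ι : Type}
  {L W Z C : ι → Subgroup G} {z : ι → G}

omit [Finite G] in
theorem D_le_Y (j : ι) : centralizer (ZJ : Set G) ≤ YY ZJ L j := le_sup_left

omit [Finite G] in
theorem L_le_Y (j : ι) : L j ≤ YY ZJ L j := le_sup_right

omit [Finite G] in
theorem z_mem_N (j : ι) : z j ∈ NN ZJ L z j := le_EE _ _ (mem_zpowers _)

omit [Finite G] in
theorem Y_norm_N (j : ι) : YY ZJ L j ≤ normalizer (NN ZJ L z j : Set G) := norm_EE _ _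

theorem OO_two : IsPGroup 2 (OO ZJ) := o2_isPGroup _

theorem OO_le_D : OO ZJ ≤ centralizer (ZJ : Set G) := MinSimple.VModule.o2_le _

theorem OO_le_Y (j : ι) : OO ZJ ≤ YY ZJ L j := OO_le_D.trans (D_le_Y j)

namespace Sk0

variable (h : Sk0 S K B ZJ Q V L W Z C z)
include h

/-- `Y j` centralises `z l`, `l ≠ j` -/
theorem Y_le_CT {j : ι} {T : Set ι} (hj : j ∉ T) : YY ZJ L j ≤ CT z T := sup_le h.cent_le_CT (h.L_le_CT hj)

/-- `C_(Y j)(z j) ≤ D` -/
theorem cap [Finite ι] (j : ι) : YY ZJ L j ⊓ centralizer ({z j} : Set G) ≤ centralizer (ZJ : Set G) := by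
  intro x hx
  refine h.mem_cent_ZJ fun i => ?_
  by_cases hij : i = j
  · subst hij
    exact mem_centralizer_singleton_iff.1 hx.2
  · exact mem_CT.1 (h.Y_le_CT (T := {i}) (fun e => hij (Set.mem_singleton_iff.1 e).symm) hx.1) i rfl

theorem cap_N [Finite ι] (j : ι) : YY ZJ L j ⊓ centralizer (NN ZJ L z j : Set G) ≤ centralizer (ZJ : Set G) :=
  (inf_le_inf_left _ (centralizer_le (Set.singleton_subset_iff.2 (z_mem_N j)))).trans (h.cap j)

/-- an element of `Y j` normalising `B` is in `D` -/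
theorem norm_le [Finite ι] (j : ι) : YY ZJ L j ⊓ normalizer (B : Set G) ≤ centralizer (ZJ : Set G) := by
  intro x hx
  refine h.cap j (mem_inf.2 ⟨hx.1, mem_centralizer_singleton_iff.2 ?_⟩)
  obtain ⟨m, hm⟩ := h.cj_Z hx.2 j
  by_cases hmj : m = j
  · rw [hmj] at hm
    exact mul_inv_eq_iff_eq_mul.1 hm
  · have h1 := mem_CT.1 (h.Y_le_CT (T := {m}) (fun e => hmj (Set.mem_singleton_iff.1 e).symm) hx.1) m rfl
    exfalso
    apply hmj
    refine h.z_inj ?_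
    have h2 : x * z m * x⁻¹ = z m := by rw [h1]; group
    rw [← hm] at h2
    have h3 : x * z j * x⁻¹ = z j := by
      have : x⁻¹ * (x * (x * z j * x⁻¹) * x⁻¹) * x = x⁻¹ * (x * z j * x⁻¹) * x := by rw [h2]
      calc x * z j * x⁻¹ = x⁻¹ * (x * (x * z j * x⁻¹) * x⁻¹) * x := by group
        _ = x⁻¹ * (x * z j * x⁻¹) * x := this
        _ = z j := by group
    rw [← hm, h3]

/-- **`B` is a Sylow 2-subgroup of `Y j`** -/
theorem syl_Y [Finite ι] (j : ι) : Syl B (YY ZJ L j) := by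
  refine ⟨h.syl_B.1.trans (D_le_Y j), h.bau_two, fun R hR hR2 hBR => ?_⟩
  have h1 : R ≤ centralizer (ZJ : Set G) := fun r hr => h.norm_le j ⟨hR hr, h.le_norm_B hR2 hBR hr⟩
  exact h.syl_B.2.2 R h1 hR2 hBR

/-- `E_I` is elementary abelian and `≤ O` -/
theorem eab [Finite ι] (I : Set ι) (hI : I ≠ Set.univ) :
    IsElementaryAbelian 2 (EI ZJ (YY ZJ L) I : Subgroup G) ∧ EI ZJ (YY ZJ L) I ≤ OO ZJ := by
  obtain ⟨v, hv⟩ := (Set.ne_univ_iff_exists_notMem I).1 hI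
  have hT : ({v} : Set ι).Nonempty := ⟨v, rfl⟩
  have h1 : (⨆ i : I, YY ZJ L i : Subgroup G) ≤ CT z {v} :=
    iSup_le fun i => h.Y_le_CT fun e => hv (Set.mem_singleton_iff.1 e ▸ i.2)
  have h2 : EI ZJ (YY ZJ L) I ≤ ET ZJ z {v} := by
    refine iSup_le fun y => ?_
    have h3 := cj_mono (y : G) (ZJ_le_ET (ZJ := ZJ) (z := z) (T := {v}))
    rwa [cj_eq_of_mem_normalizer (CT_norm_ET (h1 y.2))] at h3
  refine ⟨?_, h2.trans (h.ET_le_O hT)⟩
  refine ⟨⟨⟨fun x y => ?_⟩⟩, fun x hx => h.ET_sq hT (h2 hx)⟩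
  exact Subtype.ext (h.ET_comm hT (h2 x.2) (h2 y.2))

omit h in
theorem NE' (j : ι) (hz : zpowers (z j) ≤ ZJ) : NN ZJ L z j ≤ EI ZJ (YY ZJ L) {j} := by
  refine EE_le fun y hy => (cj_mono y hz).trans ?_
  have h1 : YY ZJ L j ≤ (⨆ i : ({j} : Set ι), YY ZJ L i : Subgroup G) :=
    le_iSup (fun i : ({j} : Set ι) => YY ZJ L i) ⟨j, rfl⟩
  exact le_iSup (fun y : (⨆ i : ({j} : Set ι), YY ZJ L i : Subgroup G) => cj (y : G) ZJ) ⟨y, h1 hy⟩

theorem NE (j : ι) : NN ZJ L z j ≤ EI ZJ (YY ZJ L) {j} := NE' j (zpowers_le.2 (h.z_mem j))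

theorem Nel [Finite ι] (j : ι) (hj : ({j} : Set ι) ≠ Set.univ) : IsElementaryAbelian 2 (NN ZJ L z j) :=
  NO3S.EThree.ExactA.eab_mono (h.eab {j} hj).1 (h.NE j)

theorem NO [Finite ι] (j : ι) (hj : ({j} : Set ι) ≠ Set.univ) : NN ZJ L z j ≤ OO ZJ :=
  (h.NE j).trans (h.eab {j} hj).2

/-- **`C_O(N j)` is normal in `Y j`** -/
theorem YQ [Finite ι] (j : ι) :
    YY ZJ L j ≤ normalizer ((OO ZJ ⊓ centralizer (NN ZJ L z j : Set G) : Subgroup G) : Set G) := by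
  set Y := YY ZJ L j with hY
  set N := NN ZJ L z j with hN
  set C' : Subgroup G := Y ⊓ centralizer (N : Set G) with hC'
  have hYC : Y ≤ normalizer (C' : Set G) := by
    intro y hy
    rw [mem_normalizer_iff_cj, hC', cj_inf, cj_centralizer, cj_eq_of_mem_normalizer (Y_norm_N j hy),
      cj_eq_of_mem_normalizer (Subgroup.le_normalizer hy)]
  have hCD : C' ≤ centralizer (ZJ : Set G) := h.cap_N j
  have hDO : centralizer (ZJ : Set G) ≤ normalizer (OO ZJ : Set G) := le_normalizer_o2 _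
  have e : OO ZJ ⊓ centralizer (N : Set G) = o2 C' := by
    apply le_antisymm
    · refine le_o2 (le_inf (inf_le_left.trans (OO_le_Y j)) inf_le_right) (OO_two.to_le inf_le_left) ?_
      intro c hc
      rw [mem_normalizer_iff_cj, cj_inf, cj_centralizer, cj_eq_of_mem_normalizer (hDO (hCD hc)),
        cj_eq_of_mem_normalizer (Y_norm_N j hc.1)]
    · refine le_inf ?_ ((MinSimple.VModule.o2_le _).trans inf_le_right)
      refine le_o2 ((MinSimple.VModule.o2_le _).trans hCD) (o2_isPGroup _) ?_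
      exact ((D_le_Y j).trans hYC).trans (ZN.normalizer_le_normalizer_o2 C')
  rw [e]
  exact hYC.trans (ZN.normalizer_le_normalizer_o2 C')

end Sk0

end Cfsg.Agent.Omega.ESOne

end

section


/-!
# THEOREM S'' : symmetries of the frame `Sk0`, and the end

* `Sk0.sy_of_norm` : `g ∈ N_G(B)`, `g z_l g⁻¹ = z (π l)`: `CoreS.Sy O Y N g π`;
* `Sk0.exists_sy` : any `g` with `g z_l g⁻¹ = z (π l)` gives `∃ g', Sy O Y N g' π`;
* `Sk0.KZ_le`, `Sk0.false_of` : the end: `CoreS.Core` and `NLoc (KZ B ZJ)` are incompatible.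
-/

set_option autoImplicit false
set_option linter.unusedSectionVars false

namespace Cfsg.Agent.Omega.ESOne

open Subgroup Cfsg Cfsg.Agent.ZN.ChoiceBase
open Cfsg.Agent.ZN (zc zl o2)
open Cfsg.Agent.ZN.ChoiceSit (Syl)
open Cfsg.Agent.Omega.EK3.StarE (EE le_EE norm_EE EE_le cj_le_EE cj_iSup_le)
open Cfsg.Agent.Omega.EK3.Rank (NoOn)
open Cfsg.Agent.Omega.ESym.CoreS (EI Sy Core)
open Cfsg.Agent.Omega.Node.MultiOf (KZ NLoc FBl)

universe u

variable {G : Type u} [Group G] [Finite G] {S : Sylow 2 G} {K B ZJ Q V : Subgroup G} {ι : Type}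
  {L W Z C : ι → Subgroup G} {z : ι → G}

omit [Finite G] in
theorem cent_le_D (U ZJ : Subgroup G) : centralizer ((U ⊔ ZJ : Subgroup G) : Set G) ≤ centralizer (ZJ : Set G) :=
  centralizer_le (SetLike.coe_subset_coe.2 le_sup_right)

namespace Sk0

variable (h : Sk0 S K B ZJ Q V L W Z C z)
include h

theorem W_inj {i j : ι} (e : W i = W j) : i = j := by
  by_contra hij
  have h1 : z i ∈ W i ⊓ C i := mem_inf.2 ⟨(h.fr.blk i).ZV (h.z_mem_Z i), by
    have h2 : z i ∈ W j := by rw [← e]; exact (h.fr.blk i).ZV (h.z_mem_Z i)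
    exact h.fr.WjC i j hij h2⟩
  rw [h.fr.dir i, mem_bot] at h1
  exact h.z_ne i h1

/-- an FF-block over `B` with module `W i` is contained in `Y i` -/
theorem blk_le {L' : Subgroup G} {i : ι} (hb : FBl B L' (W i)) : L' ≤ YY ZJ L i := by
  obtain ⟨j, hj, h1⟩ := h.uni _ _ hb
  have := h.W_inj hj
  subst this
  exact h1.trans (sup_le (L_le_Y i) ((cent_le_D _ _).trans (D_le_Y i)))

theorem cj_Y_le {g : G} (hg : g ∈ normalizer (B : Set G)) {l m : ι} (hl : g * z l * g⁻¹ = z m) :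
    cj g (YY ZJ L l) ≤ YY ZJ L m := by
  obtain ⟨m', hm, hW⟩ := h.cj_z hg l
  have e : m' = m := h.z_inj (hm.symm.trans hl)
  subst e
  have h1 : cj g (L l) ≤ YY ZJ L m' := by
    have h2 := (h.fbl l).conj hg
    rw [hW] at h2
    exact h.blk_le h2
  show cj g (centralizer (ZJ : Set G) ⊔ L l) ≤ _
  rw [cj_sup, cj_centralizer, cj_eq_of_mem_normalizer (h.norm_ZJ hg)]
  exact sup_le (D_le_Y m') h1

theorem cj_N_le {g : G} (hg : g ∈ normalizer (B : Set G)) {l m : ι} (hl : g * z l * g⁻¹ = z m) :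
    cj g (NN ZJ L z l) ≤ NN ZJ L z m := by
  refine cj_iSup_le fun y => ?_
  have h1 : g * y * g⁻¹ ∈ YY ZJ L m := h.cj_Y_le hg hl ⟨y, y.2, rfl⟩
  have h2 : cj g (zpowers (z l)) ≤ zpowers (z m) := by
    rintro _ ⟨x, hx, rfl⟩
    obtain ⟨n, rfl⟩ := mem_zpowers_iff.1 hx
    refine mem_zpowers_iff.2 ⟨n, ?_⟩
    show z m ^ n = g * z l ^ n * g⁻¹
    rw [← conj_zpow, hl]
  have h3 : cj g (cj (y : G) (zpowers (z l))) = cj (g * y * g⁻¹) (cj g (zpowers (z l))) := by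
    rw [cj_cj, cj_cj]
    congr 1
    group
  rw [h3]
  exact (cj_mono _ h2).trans (cj_le_EE h1)

/-- **a symmetry from `N_G(B)`** -/
theorem sy_of_norm {g : G} (hg : g ∈ normalizer (B : Set G)) {π : Equiv.Perm ι}
    (hπ : ∀ l, g * z l * g⁻¹ = z (π l)) : Sy (OO ZJ) (YY ZJ L) (NN ZJ L z) g π := by
  have hinv : ∀ l, g⁻¹ * z (π l) * g⁻¹⁻¹ = z l := fun l => by
    rw [← hπ l]; group
  have hg' : g⁻¹ ∈ normalizer (B : Set G) := inv_mem hg
  refine ⟨?_, fun l => le_antisymm (h.cj_Y_le hg (hπ l)) ?_, fun l => le_antisymm (h.cj_N_le hg (hπ l)) ?_⟩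
  · have h1 : g ∈ normalizer (centralizer (ZJ : Set G) : Set G) := by
      rw [mem_normalizer_iff_cj, cj_centralizer, cj_eq_of_mem_normalizer (h.norm_ZJ hg)]
    exact cj_eq_of_mem_normalizer (ZN.normalizer_le_normalizer_o2 _ h1)
  · have h1 := cj_mono g (h.cj_Y_le hg' (hinv l))
    rwa [cj_cj_inv] at h1
  · have h1 := cj_mono g (h.cj_N_le hg' (hinv l))
    rwa [cj_cj_inv] at h1

/-- an element which permutes the `z l` normalises `ZJ` -/
theorem norm_of_perm [Finite ι] {g : G} {π : Equiv.Perm ι} (hπ : ∀ l, g * z l * g⁻¹ = z (π l)) :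
    g ∈ normalizer (ZJ : Set G) := by
  have key : ∀ (g : G) (π : Equiv.Perm ι), (∀ l, g * z l * g⁻¹ = z (π l)) → cj g ZJ ≤ ZJ := by
    intro g π hπ
    refine (cj_mono g h.ZJ_le).trans (cj_iSup_le fun l => ?_)
    rintro _ ⟨x, hx, rfl⟩
    rcases (h.hz l x).1 hx with rfl | rfl
    · show g * 1 * g⁻¹ ∈ ZJ
      rw [mul_one, mul_inv_cancel]
      exact one_mem _
    · show g * z l * g⁻¹ ∈ ZJ
      rw [hπ]
      exact h.z_mem _
  refine EK3.StarE.norm_of_cj_le (key g π hπ) (key g⁻¹ π⁻¹ fun l => ?_)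
  have h1 := hπ (π⁻¹ l)
  rw [show π (π⁻¹ l) = l by simp] at h1
  rw [← h1]; group

/-- **any element which permutes the `z l`** -/
theorem exists_sy [Finite ι] {g : G} {π : Equiv.Perm ι} (hπ : ∀ l, g * z l * g⁻¹ = z (π l)) :
    ∃ g', Sy (OO ZJ) (YY ZJ L) (NN ZJ L z) g' π := by
  obtain ⟨d, hd, n, hn, rfl⟩ := h.lb.exists_frattini (h.norm_of_perm hπ)
  refine ⟨n, h.sy_of_norm hn fun l => ?_⟩
  have h1 := hπ l
  have h2 : d⁻¹ * z (π l) * d = z (π l) := by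
    have h3 := mem_centralizer_iff.1 hd (z (π l)) (h.z_mem _)
    rw [mul_assoc, h3]; group
  rw [← h2, ← h1]; group

/-- `KZ` is generated by the `Y i` -/
theorem KZ_le [Nonempty ι] : KZ B ZJ ≤ ⨆ i, YY ZJ L i := by
  obtain ⟨i₀⟩ := ‹Nonempty ι›
  refine sup_le ((D_le_Y i₀).trans (le_iSup (fun i => YY ZJ L i) i₀)) (iSup_le fun i => ?_)
  obtain ⟨j, hj, h1⟩ := h.uni _ _ i.2
  exact (h1.trans (sup_le (L_le_Y j) ((cent_le_D _ _).trans (D_le_Y j)))).trans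
    (le_iSup (fun i => YY ZJ L i) j)

/-- **`CoreS.Core`** -/
theorem core [Finite ι] [Nonempty ι] (three : ∀ i j : ι, ∃ l, l ≠ i ∧ l ≠ j)
    (no : ∀ i, NoOn (OO ZJ) (NN ZJ L z i))
    (gen : ∀ j, ∀ K : Subgroup G, K ≤ YY ZJ L j → YY ZJ L j ≤ normalizer (K : Set G) →
      ¬ K ⊓ OO ZJ ≤ centralizer (NN ZJ L z j : Set G) → YY ZJ L j ≤ K ⊔ centralizer (ZJ : Set G))
    (tr : ∀ i j, ∃ g, ∃ π : Equiv.Perm ι, (∀ l, g * z l * g⁻¹ = z (π l)) ∧ π i = j)
    (sw : ∀ i j, i ≠ j → ∃ g, ∃ π : Equiv.Perm ι, (∀ l, g * z l * g⁻¹ = z (π l)) ∧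
      ((π i = i ∧ π j ≠ j) ∨ (π i = j ∧ π j = i))) :
    Core (OO ZJ) (centralizer (ZJ : Set G)) ZJ (YY ZJ L) (NN ZJ L z) where
  two := OO_two
  OY := OO_le_Y
  OZ := OO_le_D
  DY := D_le_Y
  three := three
  ne := inferInstance
  eab := h.eab
  NE := h.NE
  YN := Y_norm_N
  YQ := h.YQ
  no := no
  gen := gen
  tr := fun i j => by
    obtain ⟨g, π, hπ, h1⟩ := tr i j
    obtain ⟨g', hs⟩ := h.exists_sy hπ
    exact ⟨g', π, hs, h1⟩
  sw := fun i j hij => by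
    obtain ⟨g, π, hπ, h1⟩ := sw i j hij
    obtain ⟨g', hs⟩ := h.exists_sy hπ
    exact ⟨g', π, hs, h1⟩

/-- **THEOREM S''** over `Sk0` -/
theorem false_of [Finite ι] [Nonempty ι] (hN : NLoc (KZ B ZJ)) (three : ∀ i j : ι, ∃ l, l ≠ i ∧ l ≠ j)
    (no : ∀ i, NoOn (OO ZJ) (NN ZJ L z i))
    (gen : ∀ j, ∀ K : Subgroup G, K ≤ YY ZJ L j → YY ZJ L j ≤ normalizer (K : Set G) →
      ¬ K ⊓ OO ZJ ≤ centralizer (NN ZJ L z j : Set G) → YY ZJ L j ≤ K ⊔ centralizer (ZJ : Set G))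
    (tr : ∀ i j, ∃ g, ∃ π : Equiv.Perm ι, (∀ l, g * z l * g⁻¹ = z (π l)) ∧ π i = j)
    (sw : ∀ i j, i ≠ j → ∃ g, ∃ π : Equiv.Perm ι, (∀ l, g * z l * g⁻¹ = z (π l)) ∧
      ((π i = i ∧ π j ≠ j) ∨ (π i = j ∧ π j = i))) : False := by
  obtain ⟨i₀⟩ := ‹Nonempty ι›
  have : Nonempty ι := ⟨i₀⟩
  have hO : OO ZJ ≠ ⊥ := by
    intro e
    have h1 : z i₀ ∈ OO ZJ := h.NO i₀ (by
      intro e1
      obtain ⟨l, hl, -⟩ := three i₀ i₀
      exact hl (Set.mem_singleton_iff.1 (e1 ▸ Set.mem_univ l))) (z_mem_N i₀)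
    rw [e, mem_bot] at h1
    exact h.z_ne i₀ h1
  obtain ⟨R, hR, hR2, hn⟩ := (h.core three no gen tr sw).local hO
  exact hR (hN R hR2 (h.KZ_le.trans (iSup_le hn)))

end Sk0

end Cfsg.Agent.Omega.ESOne

end

end

-- merged: Cfsg.Agent.Mrg.Omega.EDel.GenS
section

section


/-!
# THEOREM S'' : the field `gen` of `ESym.CoreS.Core` over the small frame `Sk0` (LEMMA G'', helper557 #23477)

* `le_sup_of_moves` : a block `L` over `B`, `q = 2`, `K` normalised by `L`, `L` not in `N(B ⊓ K)`: `L ≤ K ⊔ D`;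
* `Sk0.gen` : `K` normal in `Y j`, `K ⊓ O` moves `N j`: `Y j ≤ K ⊔ D`.
-/

set_option autoImplicit false
set_option linter.unusedSectionVars false

namespace Cfsg.Agent.Omega.EDel.GenS

open Subgroup Cfsg Cfsg.Agent.ZN.ChoiceBase
open Cfsg.Agent.ZN (zc zl o2)
open Cfsg.Agent.ZN.ChoiceSit (Syl)
open Cfsg.Agent.Omega.OM.Uni (FB)
open Cfsg.Agent.Omega.ESOne
open Cfsg.Agent.Omega.EK3 (CT mem_CT ET CT_norm_ET ZJ_le_ET)
open Cfsg.Agent.Omega.EK3.StarE (EE le_EE norm_EE EE_le cj_le_EE)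

universe u

variable {G : Type u} [Group G]

/-- **a normal subgroup of a block which moves the module** (`q = 2`) -/
theorem le_sup_of_moves [Finite G] {B L W Z K D : Subgroup G} {z : G} (hb : FB B L W Z 2)
    (hz : ∀ x, x ∈ Z ↔ x = 1 ∨ x = z) (hKn : L ≤ normalizer (K : Set G))
    (hm : ¬ L ≤ normalizer ((B ⊓ K : Subgroup G) : Set G)) (hD : L ⊓ centralizer ({z} : Set G) ≤ D) :
    L ≤ K ⊔ D := by
  have hzZ : z ∈ Z := (hz z).2 (Or.inr rfl)
  have hWc : ∀ x ∈ W, ∀ y ∈ W, x * y = y * x := fun x hx y hy => SQ1.Bau.elem_comm hb.el x hx y hy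
  have hWs : ∀ x ∈ W, x * x = 1 := fun x hx => by
    have := SQ1.Bau.elem_sq hb.el x hx
    rwa [pow_two] at this
  -- some `b ∈ B ⊓ K` moves `W`
  have h1 : ∃ b ∈ B ⊓ K, ¬ ∀ v ∈ W, b * v = v * b := by
    by_contra hcon
    push Not at hcon
    apply hm
    intro l hl
    rw [mem_normalizer_iff_cj]
    refine Subgroup.eq_of_le_of_card_ge ?_ (card_cj l _).ge
    rintro _ ⟨x, hx, rfl⟩
    exact ⟨hb.cor l hl x hx.1 (hcon x hx), (mem_normalizer_iff.1 (hKn hl) x).1 hx.2⟩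
  obtain ⟨b, ⟨hbB, hbK⟩, hbm⟩ := h1
  -- `b` acts as the transvection with centre `z`
  have hact : ∀ v ∈ W, v ∉ Z → b * v * b⁻¹ = z * v := by
    intro v hv hvZ
    have h2 : b * v * b⁻¹ * v⁻¹ ∈ Z := hb.com b hbB v hv
    rcases (hz _).1 h2 with h3 | h3
    · exfalso
      have h4 : b * v = v * b := by
        have := mul_inv_eq_one.1 h3
        exact mul_inv_eq_iff_eq_mul.1 this
      exact hbm (hb.free b hbB v hv hvZ h4)
    · exact mul_inv_eq_iff_eq_mul.1 h3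
  have hzW : z ∈ W := hb.ZV hzZ
  intro l hl
  by_cases hlz : l * z = z * l
  · exact mem_sup_right (hD ⟨hl, mem_centralizer_singleton_iff.2 hlz⟩)
  -- `w = z^l`
  set w := l * z * l⁻¹ with hw
  have hwW : w ∈ W := hb.nV l hl z hzW
  have hz1 : z ≠ 1 := by
    rintro rfl
    exact hlz (by simp)
  have hnot : ∀ y ∈ L, y * z ≠ z * y → y * z * y⁻¹ ∉ Z := by
    intro y _ hyz hyZ
    rcases (hz _).1 hyZ with h3 | h3
    · exact hz1 (by simpa using conj_eq_one_iff.1 h3)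
    · exact hyz (mul_inv_eq_iff_eq_mul.1 h3)
  have hwZ : w ∉ Z := hnot l hl hlz
  have hlz' : l⁻¹ * z ≠ z * l⁻¹ := by
    intro e
    apply hlz
    calc l * z = l * (z * l⁻¹) * l := by group
      _ = l * (l⁻¹ * z) * l := by rw [e]
      _ = z * l := by group
  have hw' : l⁻¹ * z * l ∈ W := by
    have := hb.nV l⁻¹ (inv_mem hl) z hzW
    rwa [inv_inv] at this
  have hw'Z : l⁻¹ * z * l ∉ Z := by
    have := hnot l⁻¹ (inv_mem hl) hlz'
    rwa [inv_inv] at this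
  -- `κ = b * (l b l⁻¹)`
  have hκK : b * (l * b * l⁻¹) ∈ K := mul_mem hbK ((mem_normalizer_iff.1 (hKn hl) b).1 hbK)
  have h5 : (l * b * l⁻¹) * z * (l * b * l⁻¹)⁻¹ = w * z := by
    calc (l * b * l⁻¹) * z * (l * b * l⁻¹)⁻¹ = l * (b * (l⁻¹ * z * l) * b⁻¹) * l⁻¹ := by group
      _ = l * (z * (l⁻¹ * z * l)) * l⁻¹ := by rw [hact _ hw' hw'Z]
      _ = w * z := by rw [hw]; group
  have h6 : b * z * b⁻¹ = z := by
    rw [hb.cZ b hbB z hzZ]
    group
  have h7 : (b * (l * b * l⁻¹)) * z * (b * (l * b * l⁻¹))⁻¹ = w := by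
    calc (b * (l * b * l⁻¹)) * z * (b * (l * b * l⁻¹))⁻¹ =
        b * ((l * b * l⁻¹) * z * (l * b * l⁻¹)⁻¹) * b⁻¹ := by group
      _ = (b * w * b⁻¹) * (b * z * b⁻¹) := by rw [h5]; group
      _ = z * w * z := by rw [hact w hwW hwZ, h6]
      _ = w * (z * z) := by rw [hWc z hzW w hwW, mul_assoc]
      _ = w := by rw [hWs z hzW, mul_one]
  have hb'L : b * (l * b * l⁻¹) ∈ L := mul_mem (hb.BL hbB) (mul_mem (mul_mem hl (hb.BL hbB)) (inv_mem hl))
  have h8 : (b * (l * b * l⁻¹))⁻¹ * l ∈ D := by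
    refine hD ⟨L.mul_mem (L.inv_mem hb'L) hl, mem_centralizer_singleton_iff.2 ?_⟩
    have h9 : (b * (l * b * l⁻¹)) * z * (b * (l * b * l⁻¹))⁻¹ = l * z * l⁻¹ := h7
    calc (b * (l * b * l⁻¹))⁻¹ * l * z = (b * (l * b * l⁻¹))⁻¹ * (l * z * l⁻¹) * l := by group
      _ = (b * (l * b * l⁻¹))⁻¹ * ((b * (l * b * l⁻¹)) * z * (b * (l * b * l⁻¹))⁻¹) * l := by rw [h9]
      _ = z * ((b * (l * b * l⁻¹))⁻¹ * l) := by group
  have e : l = (b * (l * b * l⁻¹)) * ((b * (l * b * l⁻¹))⁻¹ * l) := by group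
  rw [e]
  exact Subgroup.mul_mem_sup hκK h8

section frame

variable [Finite G] {S : Sylow 2 G} {K B ZJ Q V : Subgroup G} {ι : Type} [Finite ι]
  {L W Z C : ι → Subgroup G} {z : ι → G}

/-- **QP over `Sk0`** -/
theorem _root_.Cfsg.Agent.Omega.ESOne.Sk0.gen (h : Sk0 S K B ZJ Q V L W Z C z) (j : ι)
    (hj : ({j} : Set ι) ≠ Set.univ) (K' : Subgroup G) (hK : K' ≤ YY ZJ L j)
    (hn : YY ZJ L j ≤ normalizer (K' : Set G))
    (hm : ¬ K' ⊓ OO ZJ ≤ centralizer (NN ZJ L z j : Set G)) : YY ZJ L j ≤ K' ⊔ DD ZJ := by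
  have hT : (({j} : Set ι)ᶜ).Nonempty := by
    rw [Set.nonempty_compl]
    exact hj
  have hYT : YY ZJ L j ≤ CT z ({j} : Set ι)ᶜ := h.Y_le_CT (by simp)
  have hEE : EE ZJ (YY ZJ L j) ≤ ET ZJ z ({j} : Set ι)ᶜ := by
    refine EE_le fun y hy => ?_
    have h3 := cj_mono (y : G) (ZJ_le_ET (ZJ := ZJ) (z := z) (T := ({j} : Set ι)ᶜ))
    rwa [cj_eq_of_mem_normalizer (CT_norm_ET (hYT hy))] at h3
  have hWB : EE ZJ (YY ZJ L j) ≤ B := hEE.trans ((h.ET_le_o2 hT).trans (h.o2_CT_le_B _))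
  have hWc : ∀ x ∈ EE ZJ (YY ZJ L j), ∀ y ∈ EE ZJ (YY ZJ L j), x * y = y * x :=
    fun x hx y hy => h.ET_comm hT (hEE hx) (hEE hy)
  have hW2 : ∀ x ∈ EE ZJ (YY ZJ L j), x * x = 1 := fun x hx => by
    have := h.ET_sq hT (hEE hx)
    rwa [pow_two] at this
  have hCW : EE ZJ (YY ZJ L j) ⊓ centralizer (B : Set G) ≤ ZJ := by
    intro x hx
    rw [← h.fr.zcB]
    exact mem_zc.2 ⟨hWB hx.1, h.ET_sq hT (hEE hx.1), fun y hy => mem_centralizer_iff.1 hx.2 y hy⟩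
  have hFO : K' ⊓ OO ZJ ≤ K' ⊓ centralizer (ZJ : Set G) := inf_le_inf_left _ OO_le_D
  have hy : ∃ y ∈ YY ZJ L j, ¬ K' ⊓ OO ZJ ≤ centralizer (cj y ZJ : Set G) := by
    by_contra hcon
    push Not at hcon
    apply hm
    rw [le_centralizer_iff]
    refine EE_le fun y hy => ?_
    rw [le_centralizer_iff]
    exact (hcon y hy).trans (centralizer_le (cj_mono y (zpowers_le.2 (h.z_mem j))))
  obtain ⟨y, hyY, hyF⟩ := hy
  have hmv := QP.moves_of h.syl_B le_rfl hWB hWc hW2 (norm_EE ZJ (YY ZJ L j)) (le_EE ZJ _) hCW hK hn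
    inf_le_right hFO hyY hyF
  have hL : L j ≤ K' ⊔ DD ZJ := by
    refine le_sup_of_moves (h.fr.blk j) (h.hz j) ((L_le_Y j).trans hn) hmv ?_
    exact (inf_le_inf_right _ (L_le_Y j)).trans (h.cap j)
  exact sup_le le_sup_right hL

end frame

end Cfsg.Agent.Omega.EDel.GenS

end

section


/-!
# THEOREM DELTA, step (0): `O₂(C_G(z_l : l ∈ T)) ≤ B`, the groups `E` are elementary abelian, inside `O₂(C_G(ZJ))`

`FrL B Q V X ZJ L W Z C A 2` (any finite index type), `Z i = {1, z i}`, `B` Sylow in `C_G(ZJ)`, `N_G(B)` permutes the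
`Z i` and the `W i ZJ`; no coordinates (helper164 #24052).

* `Zf` : this setting; `Zf.of_lb` : from `LB S K B ZJ` and `UniI B ZJ L W`;
* `Zf.fix` : `t ∈ O₂(C_T) ∩ N_G(B)` centralises `ZJ`; `Zf.o2_le_B`, `o2_le_D`, `o2_le_o2` (`D ≤ Y ≤ C_T`), `o2_le_O`;
* `Zf.char2` (`T ≠ ∅`), `ZJ_le_zc`, `EE_le_zc`, **`E_el`**, **`E_le_O`** (`E = ⟨ZJ^H⟩`, `H ≤ C_T`), `EI_el`;
* `Zf.YQ`, `Zf.o2_Y` : `O ∩ C(N_i) = O₂(Y_i)` for `D ≤ Y_i ≤ C_G(z_l : l ≠ i)`, `N_i = ⟨z_i^(Y_i)⟩`;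
* `Zf.syl_Y` : `B` is Sylow in `C_G(z_l : l ≠ i)`.
-/

set_option autoImplicit false
set_option linter.unusedSectionVars false

namespace Cfsg.Agent.Omega.EDel

open Subgroup Cfsg Cfsg.Agent.ZN.ChoiceBase
open Cfsg.Agent.ZN (zc zl o2 jj)
open Cfsg.Agent.Omega.EK3 (CT mem_CT CT_mono)
open Cfsg.Agent.Omega.EK3.StarE (EE EE_le EE_mono le_EE norm_EE cj_le_EE)
open Cfsg.Agent.Omega.NO3S.EThree
open Cfsg.Agent.Omega.NO3S.EThree.Frame (Fg)
open Cfsg.Agent.Omega.OM.Lev.Uni (FrL)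
open Cfsg.Agent.Omega.OM.LevD (LB)
open Cfsg.Agent.ZN.ChoiceSit (Syl)
open scoped commutatorElement

universe u

variable {G : Type u} [Group G]

/-- The conjugates of `Z ≤ Ω₁Z(Q)` under `H ≤ N(Q)` are in `Ω₁Z(Q)`. -/
theorem EE_le_zc' {Z H Q : Subgroup G} (hZ : Z ≤ zc Q) (hH : H ≤ normalizer (Q : Set G)) : EE Z H ≤ zc Q := by
  refine EE_le fun p hp => ?_
  have h1 : cj p (zc Q) = zc Q := by
    rw [← LemmaK.Main.zc_cj, cj_eq_of_mem_normalizer (hH hp)]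
  rw [← h1]
  exact cj_mono p hZ

theorem eab_of_le_zc {E Q : Subgroup G} (h : E ≤ zc Q) : IsElementaryAbelian 2 E := by
  refine ⟨⟨⟨fun x y => Subtype.ext ?_⟩⟩, fun x hx => (mem_zc.1 (h hx)).2.1⟩
  exact ((mem_zc.1 (h x.2)).2.2 y (mem_zc.1 (h y.2)).1).symm

theorem mem_sup_of_norm {C T : Subgroup G} (h : T ≤ normalizer (C : Set G)) {x : G} (hx : x ∈ T ⊔ C) :
    ∃ t ∈ T, ∃ c ∈ C, x = t * c := by
  rw [← SetLike.mem_coe, coe_mul_of_left_le_normalizer_right T C h] at hx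
  obtain ⟨t, ht, c, hc, e⟩ := Set.mem_mul.1 hx
  exact ⟨t, ht, c, hc, e.symm⟩

/-- `ZJ = ∏ Z i` -/
theorem ZJ_le_iSup [Finite G] {ι : Type} [Finite ι] {B Q V ZJ : Subgroup G} {L W Z C : ι → Subgroup G} {q : ℕ}
    (h : Fg B Q V ZJ L W Z C q) : ZJ ≤ ⨆ i, Z i := by
  classical
  have : Fintype ι := Fintype.ofFinite ι
  have key : ∀ s : Finset ι, ∀ v ∈ ZJ, ∃ w ∈ (⨆ i, Z i), w⁻¹ * v ∈ ZJ ∧ ∀ i ∈ s, w⁻¹ * v ∈ C i := by
    intro s
    induction s using Finset.induction_on with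
    | empty => exact fun v hv => ⟨1, one_mem _, by simpa using hv, fun i hi => by simp at hi⟩
    | insert j s hj ih =>
      intro v hv
      obtain ⟨w, hw, hwV, hwC⟩ := ih v hv
      obtain ⟨a, ha, c, hc, hcJ, e⟩ := h.split_ZJ j hwV
      have e1 : (w * a)⁻¹ * v = a⁻¹ * (w⁻¹ * v) := by group
      have e2 : a⁻¹ * (w⁻¹ * v) = c := by rw [e]; group
      refine ⟨w * a, mul_mem hw ((le_iSup Z j) ha), by rw [e1, e2]; exact hcJ, fun i hi => ?_⟩
      rw [e1]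
      rcases Finset.mem_insert.1 hi with rfl | hi
      · rw [e2]
        exact hc
      · have hij : i ≠ j := fun e => hj (e ▸ hi)
        exact mul_mem (inv_mem (h.WjC i j hij ((h.blk j).ZV ha))) (hwC i hi)
  intro v hv
  obtain ⟨w, hw, hwV, hwC⟩ := key Finset.univ v hv
  have h1 := h.C0 (w⁻¹ * v) (h.ZJV hwV) fun i => hwC i (Finset.mem_univ i)
  have h2 : v = w := (inv_mul_eq_one.1 h1).symm
  rw [h2]
  exact hw

variable {ι : Type} {B Q V X ZJ : Subgroup G} {L W Z C A : ι → Subgroup G} {z : ι → G} {T : Set ι}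

/-- **The setting of step (0).** -/
structure Zf (B Q V X ZJ : Subgroup G) (L W Z C A : ι → Subgroup G) (z : ι → G) : Prop where
  hG : IsCharacteristicTwoType G
  fr : FrL B Q V X ZJ L W Z C A 2
  hz : ∀ i x, x ∈ Z i ↔ x = 1 ∨ x = z i
  Bp : IsPGroup 2 B
  syl : ∀ R : Subgroup G, R ≤ centralizer (ZJ : Set G) → IsPGroup 2 R → B ≤ R → R ≤ B
  uni : ∀ g ∈ normalizer (B : Set G), ∀ i, ∃ j, cj g (Z i) = Z j ∧ cj g (W i) ≤ W j ⊔ ZJ

/-- from a level `LB S K B ZJ` and UNI+ `UniI B ZJ L W` -/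
theorem Zf.of_lb [Finite G] {S : Sylow 2 G} {K : Subgroup G} (hG : IsCharacteristicTwoType G) (lb : LB S K B ZJ)
    (fr : FrL B Q V X ZJ L W Z C A 2) (hz : ∀ i x, x ∈ Z i ↔ x = 1 ∨ x = z i)
    (uni : NO3S.ESym.UniI B ZJ L W) : Zf B Q V X ZJ L W Z C A z where
  hG := hG
  fr := fr
  hz := hz
  Bp := lb.Bp
  syl R hR hR2 hBR := by
    have hSZ : (S : Subgroup G) ≤ normalizer (ZJ : Set G) :=
      (le_normalizer (H := (S : Subgroup G))).trans
        (lb.nrm _ S.isPGroup' ((lb.KB.trans lb.eqB.le).trans inf_le_left))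
    exact ((OM.WOneG.syl_B S lb.eqB hSZ).2.2 R hR hR2 hBR).le
  uni g hg i := by
    have hb : Node.MultiOf.FBl B (L i) (W i) :=
      ⟨⟨_, _, fr.blk i⟩, (fr.blk i).toBlock (fr.cardZ i) lb.Bp lb.weakNormal⟩
    obtain ⟨j, hj, -⟩ := uni _ _ (hb.conj hg)
    refine ⟨j, ?_, hj.le.trans le_sup_left⟩
    -- `Z i = [W i, B]`
    have e1 : cj g ⁅W i, B⁆ = ⁅cj g (W i), cj g B⁆ := Subgroup.map_commutator _ _ _
    rw [← fr.comm_W i, e1, cj_eq_of_mem_normalizer hg, hj, fr.comm_W j]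

namespace Zf

variable (h : Zf B Q V X ZJ L W Z C A z)
include h

theorem z_mem_Z (i : ι) : z i ∈ Z i := (h.hz i _).2 (Or.inr rfl)

theorem z_mem (i : ι) : z i ∈ ZJ := h.fr.Z_le i (h.z_mem_Z i)

theorem ZJ_sq {x : G} (hx : x ∈ ZJ) : x ^ 2 = 1 := SQ1.Bau.elem_sq h.fr.elX _ (h.fr.VX (h.fr.ZJV hx))

theorem ZJ_comm {x y : G} (hx : x ∈ ZJ) (hy : y ∈ ZJ) : x * y = y * x := h.fr.Vc (h.fr.ZJV hx) (h.fr.ZJV hy)

theorem z_ne (i : ι) : z i ≠ 1 := by
  intro e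
  have h1 : Z i = ⊥ := by
    rw [eq_bot_iff]
    intro x hx
    rcases (h.hz i x).1 hx with e1 | e1
    · exact mem_bot.2 e1
    · exact mem_bot.2 (e1.trans e)
  have h2 := h.fr.cardZ i
  rw [h1, card_bot] at h2
  omega

theorem B_le_D : B ≤ centralizer (ZJ : Set G) := by
  intro b hb
  rw [mem_centralizer_iff]
  exact fun v hv => (((h.fr.mem_ZJ v).1 hv).2 b hb).symm

theorem ZJ_le_D : ZJ ≤ centralizer (ZJ : Set G) := fun _ hx =>
  mem_centralizer_iff.2 fun _ hy => h.ZJ_comm hy hx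

theorem D_le_CT : centralizer (ZJ : Set G) ≤ CT z T := by
  refine centralizer_le ?_
  rintro _ ⟨l, -, rfl⟩
  exact h.z_mem l

/-- `L i ≤ C_T` for `i ∉ T` -/
theorem L_le_CT {i : ι} (hi : i ∉ T) : L i ≤ CT z T := by
  intro l hl
  rw [mem_CT]
  intro j hj
  have hij : i ≠ j := fun e => hi (e ▸ hj)
  exact h.fr.LC i l hl _ (h.z_mem j) (h.fr.WjC i j hij ((h.fr.blk j).ZV (h.z_mem_Z j)))

/-- `⟨D, L i⟩ ≤ C_T` for `i ∉ T` -/
theorem DL_le_CT {i : ι} (hi : i ∉ T) : centralizer (ZJ : Set G) ⊔ L i ≤ CT z T :=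
  sup_le h.D_le_CT (h.L_le_CT hi)

section fin

variable [Finite G] [Finite ι]

theorem mem_D {x : G} (hx : ∀ i, x * z i = z i * x) : x ∈ centralizer (ZJ : Set G) := by
  have h1 : ZJ ≤ centralizer ({x} : Set G) := by
    refine (ZJ_le_iSup (OM.Lev.Main.toFg h.fr)).trans (iSup_le fun i y hy => ?_)
    rw [mem_centralizer_singleton_iff]
    rcases (h.hz i y).1 hy with rfl | rfl
    · simp
    · exact (hx i).symm
  rw [mem_centralizer_iff]
  exact fun y hy => mem_centralizer_singleton_iff.1 (h1 hy)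

/-- `D = C_G(all z_l)` -/
theorem D_eq : centralizer (ZJ : Set G) = CT z Set.univ :=
  le_antisymm h.D_le_CT fun x hx => h.mem_D fun i => mem_CT.1 hx i (Set.mem_univ _)

/-- `O₂(L i)` centralises `W i`: a 2-subgroup of `B`, normalised by `L i`, centralises `W i`. -/
theorem cent_W {i : ι} {U : Subgroup G} (hU : U ≤ B) (hL : L i ≤ normalizer (U : Set G)) :
    U ≤ centralizer (W i : Set G) := by
  -- `Z i ≤ C_{W i}(U)`, which is invariant under `L i`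
  obtain ⟨k, hk, hs⟩ := (h.fr.blk i).sup
  have h2 : ⁅W i, B⁆ ≤ Z i := (h.fr.blk i).comm_le le_rfl
  have hZ : Z i ≤ centralizer (U : Set G) := fun x hx => mem_centralizer_iff.2 fun u hu =>
    (h.fr.blk i).cZ u (hU hu) x hx
  have hcj : cj k (Z i) ≤ centralizer (U : Set G) := by
    have h3 := cj_mono k hZ
    rwa [cj_centralizer, cj_eq_of_mem_normalizer (hL hk)] at h3
  exact le_centralizer_iff.1 (hs.trans (sup_le (h2.trans hZ) ((cj_mono k h2).trans hcj)))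

/-- **Step (0)**: an element of `O₂(C_T) ∩ N_G(B)` centralises `ZJ`. -/
theorem fix {t : G} (ht : t ∈ o2 (CT z T)) (htB : t ∈ normalizer (B : Set G)) :
    t ∈ centralizer (ZJ : Set G) := by
  set U := o2 (CT z T) with hU
  have hCTU : CT z T ≤ normalizer (U : Set G) := MinSimple.VModule.le_normalizer_o2 _
  have hBU : B ≤ normalizer (U : Set G) := (h.B_le_D.trans h.D_le_CT).trans hCTU
  -- if `cj t (Z i) = Z j`, `i = j`, then `t` fixes `z i`
  have hfix : ∀ i, cj t (Z i) = Z i → t * z i = z i * t := by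
    intro i hi
    have h1 : t * z i * t⁻¹ ∈ Z i := by
      rw [← hi]
      exact ⟨z i, h.z_mem_Z i, rfl⟩
    rcases (h.hz i _).1 h1 with h2 | h2
    · exact absurd (by simpa using h2) (h.z_ne i)
    · exact mul_inv_eq_iff_eq_mul.1 h2
  refine h.mem_D fun i => ?_
  by_cases hiT : i ∈ T
  · exact mem_CT.1 (Cfsg.Agent.ZN.o2_le _ ht) i hiT
  obtain ⟨j, hj, hjW⟩ := h.uni t htB i
  by_cases hij : i = j
  · subst hij
    exact hfix i hj
  exfalso
  -- `U ∩ B` centralises `W i`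
  have hL : L i ≤ normalizer ((U ⊓ B : Subgroup G) : Set G) := by
    have h1 : ∀ l ∈ L i, cj l (U ⊓ B) ≤ U ⊓ B := by
      rintro l hl _ ⟨x, hx, rfl⟩
      have hlU : l * x * l⁻¹ ∈ U := (mem_normalizer_iff.1 (hCTU (h.L_le_CT hiT hl)) x).1 hx.1
      have h2 : ((U ⊓ L i : Subgroup G)) ≤ B := by
        -- `B (U ∩ L i)` is a 2-subgroup of `L i` over `B`
        have hn : B ≤ normalizer ((U ⊓ L i : Subgroup G) : Set G) := by
          intro b hb
          rw [mem_normalizer_iff_cj, cj_inf, cj_eq_of_mem_normalizer (hBU hb),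
            cj_eq_of_mem_normalizer (le_normalizer ((h.fr.blk i).BL hb))]
        have h3 : IsPGroup 2 (B ⊔ (U ⊓ L i) : Subgroup G) :=
          IsPGroup.to_sup_of_normal_right' h.Bp ((MinSimple.VModule.o2_isPGroup _).to_le inf_le_left) hn
        have h4 := (h.fr.blk i).syl _ le_sup_left (sup_le (h.fr.blk i).BL inf_le_right) h3
        rw [← h4]
        exact le_sup_right
      exact ⟨hlU, h2 ⟨hlU, (L i).mul_mem ((L i).mul_mem hl ((h.fr.blk i).BL hx.2)) ((L i).inv_mem hl)⟩⟩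
    exact EK3.StarE.le_norm_of_cj_le h1
  have hUW : U ⊓ B ≤ centralizer (W i : Set G) := h.cent_W inf_le_right hL
  -- `U ∩ B` centralises `cj t (W i)`
  have htU : cj t (U ⊓ B) = U ⊓ B := by
    rw [cj_inf, cj_eq_of_mem_normalizer (le_normalizer ht), cj_eq_of_mem_normalizer htB]
  have hUW' : U ⊓ B ≤ centralizer (cj t (W i) : Set G) := by
    have h1 := cj_mono t hUW
    rwa [htU, cj_centralizer] at h1
  -- `τ ∈ A i` moves `w ∈ W i`, centralises `cj t (W i) ≤ W j ZJ`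
  have h4 := h.fr.Ane i
  push Not at h4
  obtain ⟨τ, hτ, w, hw, hne⟩ := h4
  have hτB := h.fr.AB i hτ
  have hτc : W j ⊔ ZJ ≤ centralizer ({τ} : Set G) := by
    refine sup_le (fun x hx => ?_) fun x hx => ?_
    · rw [mem_centralizer_singleton_iff]
      exact (h.fr.AC i τ hτ x (h.fr.WjC i j hij hx)).symm
    · rw [mem_centralizer_singleton_iff]
      exact (((h.fr.mem_ZJ x).1 hx).2 τ hτB).symm
  -- `[t, τ] ∈ U ∩ B`
  have hc : t * τ * t⁻¹ * τ⁻¹ ∈ U ⊓ B := by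
    refine ⟨?_, B.mul_mem ((mem_normalizer_iff.1 htB τ).1 hτB) (B.inv_mem hτB)⟩
    have e : t * τ * t⁻¹ * τ⁻¹ = t * (τ * t⁻¹ * τ⁻¹) := by group
    rw [e]
    exact mul_mem ht ((mem_normalizer_iff.1 (hBU hτB) _).1 (inv_mem ht))
  -- it centralises `cj t w`
  have hx : t * w * t⁻¹ ∈ cj t (W i) := ⟨w, hw, rfl⟩
  have h5 := mem_centralizer_iff.1 (hUW' hc) _ hx
  have h6 := mem_centralizer_singleton_iff.1 (hτc (hjW hx))
  apply hne
  -- `(t w t⁻¹) (t τ t⁻¹ τ⁻¹) = (t τ t⁻¹ τ⁻¹) (t w t⁻¹)`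
  have h7 : t * w * t⁻¹ * (t * τ * t⁻¹) = t * τ * t⁻¹ * (t * w * t⁻¹) := by
    have e1 : t * w * t⁻¹ * (t * τ * t⁻¹) = t * w * t⁻¹ * (t * τ * t⁻¹ * τ⁻¹) * τ := by group
    have e2 : t * τ * t⁻¹ * (t * w * t⁻¹) = t * τ * t⁻¹ * τ⁻¹ * (τ * (t * w * t⁻¹)) := by group
    rw [e1, h5, e2, mul_assoc, ← h6]
  have h8 : t * (w * τ) * t⁻¹ = t * (τ * w) * t⁻¹ := by
    calc t * (w * τ) * t⁻¹ = t * w * t⁻¹ * (t * τ * t⁻¹) := by group
      _ = t * τ * t⁻¹ * (t * w * t⁻¹) := h7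
      _ = t * (τ * w) * t⁻¹ := by group
  exact (mul_left_cancel (mul_right_cancel h8)).symm

/-- If every element of `O₂(Y) ∩ N_G(B)` centralises `ZJ`, then `O₂(Y) ≤ B` (`D ≤ Y`). -/
theorem o2_le_of {Y : Subgroup G} (hY : centralizer (ZJ : Set G) ≤ Y)
    (hp : ∀ t ∈ o2 Y, t ∈ normalizer (B : Set G) → t ∈ centralizer (ZJ : Set G)) : o2 Y ≤ B := by
  have hB : B ≤ normalizer (o2 Y : Set G) := (h.B_le_D.trans hY).trans (MinSimple.VModule.le_normalizer_o2 _)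
  have h1 : IsPGroup 2 (B ⊔ o2 Y : Subgroup G) :=
    IsPGroup.to_sup_of_normal_right' h.Bp (MinSimple.VModule.o2_isPGroup _) hB
  by_contra hcon
  obtain ⟨t, htX, htN, htB⟩ : ∃ t ∈ o2 Y, t ∈ normalizer (B : Set G) ∧ t ∉ B := by
    have h2 : B < B ⊔ o2 Y := lt_of_le_of_ne le_sup_left fun e => hcon (e ▸ le_sup_right)
    obtain ⟨y, hy, hyB, hyN⟩ := Involutions.BaerSuzuki.exists_mem_normalizer_of_lt h1 h2
    obtain ⟨b, hb, t, ht, e⟩ := mem_sup_of_norm hB hy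
    refine ⟨t, ht, ?_, fun htB => hyB (by rw [e]; exact mul_mem hb htB)⟩
    have e' : t = b⁻¹ * y := by rw [e]; group
    rw [e']
    exact mul_mem (inv_mem (le_normalizer hb)) hyN
  have h3 := hp t htX htN
  have h4 : IsPGroup 2 (B ⊔ zpowers t : Subgroup G) :=
    h1.to_le (sup_le le_sup_left ((zpowers_le.2 htX).trans le_sup_right))
  exact htB (h.syl _ (sup_le h.B_le_D (zpowers_le.2 h3)) h4 le_sup_left (le_sup_right (a := B) (mem_zpowers t)))

/-- **`O₂(C_T) ≤ B`** -/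
theorem o2_le_B : o2 (CT z T) ≤ B := h.o2_le_of h.D_le_CT fun _ ht htB => h.fix ht htB

theorem o2_le_D : o2 (CT z T) ≤ centralizer (ZJ : Set G) := h.o2_le_B.trans h.B_le_D

/-- `O₂(C_T) ≤ O₂(Y)` for `D ≤ Y ≤ C_T` -/
theorem o2_le_o2 {Y : Subgroup G} (hY : centralizer (ZJ : Set G) ≤ Y) (hYT : Y ≤ CT z T) : o2 (CT z T) ≤ o2 Y :=
  MinSimple.Basic.o2_normal_le_o2 (h.o2_le_D.trans hY) hYT

/-- `O₂(C_T) ≤ O` -/
theorem o2_le_O : o2 (CT z T) ≤ o2 (centralizer (ZJ : Set G)) := h.o2_le_o2 le_rfl h.D_le_CT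

/-- `C_T` has characteristic 2 for `T ≠ ∅` -/
theorem char2 (hT : T.Nonempty) : CT z T ⊓ centralizer (o2 (CT z T) : Set G) ≤ o2 (CT z T) := by
  have e : CT z T = centralizer ((closure (z '' T) : Subgroup G) : Set G) := (centralizer_closure _).symm
  have hle : closure (z '' T) ≤ ZJ := by
    rw [closure_le]
    rintro _ ⟨l, -, rfl⟩
    exact h.z_mem l
  rw [e]
  refine NOne.LemmaT.char2_centralizer h.hG (fun x => ⟨1, ?_⟩) ?_
  · have h2 := h.ZJ_sq (hle x.2)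
    exact Subtype.ext (by simpa using h2)
  · obtain ⟨l, hl⟩ := hT
    intro e1
    have h1 : z l ∈ closure (z '' T) := subset_closure ⟨l, hl, rfl⟩
    rw [e1, mem_bot] at h1
    exact h.z_ne l h1

theorem ZJ_le_zc (hT : T.Nonempty) : ZJ ≤ zc (o2 (CT z T)) := by
  have h1 : ZJ ≤ centralizer (o2 (CT z T) : Set G) := le_centralizer_iff.1 h.o2_le_D
  intro x hx
  exact mem_zc.2 ⟨h.char2 hT ⟨h.D_le_CT (h.ZJ_le_D hx), h1 hx⟩, h.ZJ_sq hx, fun y hy =>
    mem_centralizer_iff.1 (h1 hx) y hy⟩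

/-- `⟨ZJ^H⟩ ≤ Ω₁Z(O₂(C_T))` for `H ≤ C_T` -/
theorem EE_le_zc (hT : T.Nonempty) {H : Subgroup G} (hH : H ≤ CT z T) : EE ZJ H ≤ zc (o2 (CT z T)) :=
  EE_le_zc' (h.ZJ_le_zc hT) (hH.trans (MinSimple.VModule.le_normalizer_o2 _))

theorem EE_le_o2 (hT : T.Nonempty) {H : Subgroup G} (hH : H ≤ CT z T) : EE ZJ H ≤ o2 (CT z T) :=
  fun _ hx => (mem_zc.1 (h.EE_le_zc hT hH hx)).1

/-- **`⟨ZJ^H⟩` is elementary abelian** for `H ≤ C_T`, `T ≠ ∅`. -/
theorem E_el (hT : T.Nonempty) {H : Subgroup G} (hH : H ≤ CT z T) : IsElementaryAbelian 2 (EE ZJ H) :=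
  eab_of_le_zc (h.EE_le_zc hT hH)

/-- **`⟨ZJ^H⟩ ≤ O`** for `H ≤ C_T`, `T ≠ ∅`. -/
theorem E_le_O (hT : T.Nonempty) {H : Subgroup G} (hH : H ≤ CT z T) : EE ZJ H ≤ o2 (centralizer (ZJ : Set G)) :=
  (h.EE_le_o2 hT hH).trans h.o2_le_O

/-- `⟨ZJ^H⟩ ≤ O₂(Y)` for `H ≤ C_T`, `D ≤ Y ≤ C_T`, `T ≠ ∅`. -/
theorem E_le_o2 (hT : T.Nonempty) {H Y : Subgroup G} (hH : H ≤ CT z T) (hY : centralizer (ZJ : Set G) ≤ Y)
    (hYT : Y ≤ CT z T) : EE ZJ H ≤ o2 Y := (h.EE_le_o2 hT hH).trans (h.o2_le_o2 hY hYT)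

section Y

variable {Y : ι → Subgroup G} (hYT : ∀ i, Y i ≤ CT z ({i} : Set ι)ᶜ)
include hYT

omit h [Finite G] [Finite ι] in
/-- `⟨Y i : i ∈ Δ⟩ ≤ C_T`, `T` disjoint from `Δ` -/
theorem iSup_le_CT {κ : Sort*} {f : κ → ι} (hf : ∀ k, f k ∉ T) : (⨆ k, Y (f k)) ≤ CT z T :=
  iSup_le fun k => (hYT _).trans (CT_mono fun l hl => by
    rw [Set.mem_compl_iff, Set.mem_singleton_iff]
    rintro rfl
    exact hf k hl)

/-- the form for a proper subset `I` of the index set (helper7's `CoreS.EI`) -/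
theorem EI_el {I : Set ι} (hI : I ≠ Set.univ) : IsElementaryAbelian 2 (EE ZJ (⨆ i : I, Y i)) ∧
    EE ZJ (⨆ i : I, Y i) ≤ o2 (centralizer (ZJ : Set G)) := by
  have hT : (Iᶜ : Set ι).Nonempty := Set.nonempty_compl.2 hI
  have hH : (⨆ i : I, Y i) ≤ CT z Iᶜ := iSup_le_CT hYT (f := fun i : I => (i : ι)) fun i hi => hi i.2
  exact ⟨h.E_el hT hH, h.E_le_O hT hH⟩

end Y

/-- `C_{Y}(N) ≤ D` for `Y ≤ C_G(z_l : l ≠ i)`, `z_i ∈ N` -/
theorem cent_le_D {i : ι} {Y N : Subgroup G} (hYT : Y ≤ CT z ({i} : Set ι)ᶜ) (hN : z i ∈ N) :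
    Y ⊓ centralizer (N : Set G) ≤ centralizer (ZJ : Set G) := by
  intro x hx
  refine h.mem_D fun l => ?_
  by_cases hl : l = i
  · rw [hl]
    exact (mem_centralizer_iff.1 hx.2 _ hN).symm
  · exact mem_CT.1 (hYT hx.1) l hl

omit h [Finite ι] in
theorem z_mem_EE (i : ι) (Y : Subgroup G) : z i ∈ EE (zpowers (z i)) Y := le_EE _ _ (mem_zpowers _)

theorem N_le_EE (i : ι) (Y : Subgroup G) : EE (zpowers (z i)) Y ≤ EE ZJ Y :=
  EE_le fun _ hy => (cj_mono _ (zpowers_le.2 (h.z_mem i))).trans (cj_le_EE hy)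

theorem N_ne (i : ι) (Y : Subgroup G) : EE (zpowers (z i)) Y ≠ ⊥ := by
  intro e
  have h1 := z_mem_EE (z := z) i Y
  rw [e, mem_bot] at h1
  exact h.z_ne i h1

/-- `O ∩ C(N) ≤ O₂(Y)` for `D ≤ Y ≤ C_G(z_l : l ≠ i)`, `z_i ∈ N`, `Y ≤ N_G(N)` -/
theorem inf_le_o2 {i : ι} {Y N : Subgroup G} (hDY : centralizer (ZJ : Set G) ≤ Y) (hYT : Y ≤ CT z ({i} : Set ι)ᶜ)
    (hN : z i ∈ N) (hYN : Y ≤ normalizer (N : Set G)) :
    o2 (centralizer (ZJ : Set G)) ⊓ centralizer (N : Set G) ≤ o2 Y ∧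
      Y ≤ normalizer ((o2 (centralizer (ZJ : Set G)) ⊓ centralizer (N : Set G) : Subgroup G) : Set G) := by
  have hO : o2 (centralizer (ZJ : Set G)) ≤ Y := (Cfsg.Agent.ZN.o2_le _).trans hDY
  have hCD : Y ⊓ centralizer (N : Set G) ≤ centralizer (ZJ : Set G) := h.cent_le_D hYT hN
  have hCN : ∀ y ∈ Y, cj y (Y ⊓ centralizer (N : Set G)) = Y ⊓ centralizer (N : Set G) := by
    intro y hy
    rw [cj_inf, cj_centralizer, cj_eq_of_mem_normalizer (hYN hy), cj_eq_of_mem_normalizer (le_normalizer hy)]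
  have h1 : o2 (centralizer (ZJ : Set G)) ⊓ centralizer (N : Set G) = o2 (Y ⊓ centralizer (N : Set G)) := by
    apply le_antisymm
    · refine MinSimple.VModule.le_o2 (le_inf (inf_le_left.trans hO) inf_le_right)
        ((MinSimple.VModule.o2_isPGroup _).to_le inf_le_left) fun c hc => ?_
      rw [mem_normalizer_iff_cj, cj_inf, cj_centralizer, cj_eq_of_mem_normalizer (hYN hc.1),
        cj_eq_of_mem_normalizer (MinSimple.VModule.le_normalizer_o2 _ (hCD hc))]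
    · refine le_inf ?_ ((Cfsg.Agent.ZN.o2_le _).trans inf_le_right)
      refine MinSimple.VModule.le_o2 ((Cfsg.Agent.ZN.o2_le _).trans hCD) (MinSimple.VModule.o2_isPGroup _)
        fun d hd => ?_
      rw [mem_normalizer_iff_cj, ← ZN.ChoiceSit.o2_cj, hCN d (hDY hd)]
  have h2 : Y ≤ normalizer ((o2 (centralizer (ZJ : Set G)) ⊓ centralizer (N : Set G) : Subgroup G) : Set G) := by
    intro y hy
    rw [h1, mem_normalizer_iff_cj, ← ZN.ChoiceSit.o2_cj, hCN y hy]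
  exact ⟨MinSimple.VModule.le_o2 (inf_le_left.trans hO) ((MinSimple.VModule.o2_isPGroup _).to_le inf_le_left) h2, h2⟩

/-- **YQ** -/
theorem YQ {i : ι} {Y : Subgroup G} (hDY : centralizer (ZJ : Set G) ≤ Y) (hYT : Y ≤ CT z ({i} : Set ι)ᶜ) :
    Y ≤ normalizer ((o2 (centralizer (ZJ : Set G)) ⊓ centralizer (EE (zpowers (z i)) Y : Set G) : Subgroup G) :
      Set G) :=
  (h.inf_le_o2 hDY hYT (z_mem_EE i Y) (norm_EE _ _)).2

/-- **`O₂(Y_i) = C_O(N_i)`** (at least two indices) -/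
theorem o2_Y {i : ι} {Y : Subgroup G} (hDY : centralizer (ZJ : Set G) ≤ Y) (hYT : Y ≤ CT z ({i} : Set ι)ᶜ)
    (h2 : ∃ l, l ≠ i) (hoY : o2 Y ≤ B) :
    o2 (centralizer (ZJ : Set G)) ⊓ centralizer (EE (zpowers (z i)) Y : Set G) = o2 Y := by
  refine le_antisymm (h.inf_le_o2 hDY hYT (z_mem_EE i Y) (norm_EE _ _)).1 ?_
  have hT : (({i} : Set ι)ᶜ).Nonempty := h2
  refine le_inf (MinSimple.Basic.o2_normal_le_o2 (hoY.trans h.B_le_D) hDY) (le_centralizer_iff.1 ?_)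
  -- `z i` centralises `O₂(Y) ≤ B`
  have h3 : zpowers (z i) ≤ centralizer (o2 Y : Set G) :=
    (zpowers_le.2 (h.z_mem i)).trans (le_centralizer_iff.1 (hoY.trans h.B_le_D))
  refine EE_le fun y hy => ?_
  have h4 := cj_mono y h3
  rwa [cj_centralizer, cj_eq_of_mem_normalizer (MinSimple.VModule.le_normalizer_o2 _ hy)] at h4

/-- an element of `N_G(B)` which centralises all `z_l`, `l ≠ i`, is in `D` -/
theorem norm_inf_le (i : ι) : normalizer (B : Set G) ⊓ CT z ({i} : Set ι)ᶜ ≤ centralizer (ZJ : Set G) := by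
  intro g hg
  have hl : ∀ l, l ≠ i → g * z l = z l * g := fun l hl => mem_CT.1 hg.2 l hl
  refine h.mem_D fun l => ?_
  by_cases hli : l = i
  · subst hli
    obtain ⟨j, hj, -⟩ := h.uni g hg.1 l
    have h1 : g * z l * g⁻¹ ∈ Z j := by
      rw [← hj]
      exact ⟨z l, h.z_mem_Z l, rfl⟩
    rcases (h.hz j _).1 h1 with h2 | h2
    · exact absurd (by simpa using h2) (h.z_ne l)
    · by_cases hjl : j = l
      · rw [hjl] at h2
        exact mul_inv_eq_iff_eq_mul.1 h2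
      · -- `g z_l g⁻¹ = z_j = g z_j g⁻¹`
        have h3 : g * z j * g⁻¹ = z j := by rw [hl j hjl]; group
        have h4 : z l = z j := by
          have := h2.trans h3.symm
          exact mul_left_cancel (mul_right_cancel this)
        rw [h4]
        exact hl j hjl
  · exact hl l hli

/-- `B` is a Sylow 2-subgroup of every `Y` between `B` and `C_G(z_l : l ≠ i)`. -/
theorem syl_Y {i : ι} {R : Subgroup G} (hR : R ≤ CT z ({i} : Set ι)ᶜ) (hR2 : IsPGroup 2 R) (hBR : B ≤ R) : R ≤ B := by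
  by_contra hcon
  have h2 : B < R := lt_of_le_of_ne hBR fun e => hcon (e ▸ le_rfl)
  obtain ⟨y, hy, hyB, hyN⟩ := Involutions.BaerSuzuki.exists_mem_normalizer_of_lt hR2 h2
  have h3 : y ∈ centralizer (ZJ : Set G) := h.norm_inf_le i ⟨hyN, hR hy⟩
  have h4 : IsPGroup 2 (B ⊔ zpowers y : Subgroup G) := hR2.to_le (sup_le hBR (zpowers_le.2 hy))
  exact hyB (h.syl _ (sup_le h.B_le_D (zpowers_le.2 h3)) h4 le_sup_left (le_sup_right (a := B) (mem_zpowers y)))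

theorem Syl_Y {i : ι} {Y : Subgroup G} (hDY : centralizer (ZJ : Set G) ≤ Y) (hYT : Y ≤ CT z ({i} : Set ι)ᶜ) :
    Syl B Y :=
  ⟨h.B_le_D.trans hDY, h.Bp, fun _ hR hR2 hBR => le_antisymm (h.syl_Y (hR.trans hYT) hR2 hBR) hBR⟩

/-- `O₂(Y) ≤ B` for `D ≤ Y ≤ C_G(z_l : l ≠ i)` -/
theorem o2_Y_le_B {i : ι} {Y : Subgroup G} (hDY : centralizer (ZJ : Set G) ≤ Y) (hYT : Y ≤ CT z ({i} : Set ι)ᶜ) :
    o2 Y ≤ B :=
  h.o2_le_of hDY fun _ ht htB => h.norm_inf_le i ⟨htB, hYT (Cfsg.Agent.ZN.o2_le _ ht)⟩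

/-- a normal subgroup of `Y` inside `D` centralises `N = ⟨z_i^Y⟩` -/
theorem le_cent_N {i : ι} {Y K : Subgroup G} (hK : K ≤ centralizer (ZJ : Set G)) (hYK : Y ≤ normalizer (K : Set G)) :
    K ≤ centralizer (EE (zpowers (z i)) Y : Set G) := by
  have h3 : zpowers (z i) ≤ centralizer (K : Set G) :=
    (zpowers_le.2 (h.z_mem i)).trans (le_centralizer_iff.1 hK)
  refine le_centralizer_iff.1 (EE_le fun y hy => ?_)
  have h4 := cj_mono y h3
  rwa [cj_centralizer, cj_eq_of_mem_normalizer (hYK hy)] at h4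

end fin

end Zf

end Cfsg.Agent.Omega.EDel

end

section


/-!
# THEOREM DELTA (helper647 #24014, after helper787 #23621): the abstract core

`D ≤ Y i`, `O = O₂(D)`, `N i` normal in `Y i`, `E v := ⟨ZJ^⟨Y i : i ≠ v⟩⟩` elementary abelian, inside `O`; `(NO)` for `O`
on every `N i`; a normal subgroup `K` of `Y i` moving `N i` has `Y i = D K`; no nontrivial subgroup of `O` is normalised
by `D` and all `Y i`.

* `Dl` : this setting;
* `Dom i v` : `Y i` normalises `X N_i` for all `D`-invariant `X ≤ E v`;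
* `Dl.exists_AA` : some `A ∈ AA(O)` moves some `N i`;
* `Dl.exists_dom` : `A ∈ AA(O)` moves `E v`: `Dom i v` for some `i ≠ v` (the lever, helper574);
* `Ac g π` : conjugation by `g` induces the permutation `π`;
* `Dl.false_of_brother` : **no such setting, if the group is transitive on the indices and the interchange of two
  brothers `v, σ v` (everything else fixed) is induced**.
-/

set_option autoImplicit false
set_option linter.unusedSectionVars false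

namespace Cfsg.Agent.Omega.EDel

open Subgroup Cfsg Cfsg.Agent.ZN Cfsg.Agent.ZN.ChoiceBase
open Cfsg.Agent.Omega.NO3S.EThree
open Cfsg.Agent.Omega.NO3S.EThree.ExactA (eab_mono eab_sup eab_iff)
open Cfsg.Agent.Omega.EK3.Rank (NoOn)
open Cfsg.Agent.Omega.EK3.StarE (EE cj_le_EE EE_le EE_mono le_EE cj_iSup_le norm_of_cj_le le_norm_of_cj_le norm_EE)
open scoped commutatorElement

universe u

variable {G : Type u} [Group G] {ι : Type*}

/-- `E v = ⟨ZJ^⟨Y i : i ≠ v⟩⟩` -/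
def Ev (ZJ : Subgroup G) (Y : ι → Subgroup G) (v : ι) : Subgroup G := EE ZJ (⨆ i : {i // i ≠ v}, Y i)

/-- **The setting of THEOREM DELTA.** -/
structure Dl (O D ZJ : Subgroup G) (Y N : ι → Subgroup G) : Prop where
  OD : O ≤ D
  OZ : O ≤ centralizer (ZJ : Set G)
  DY : ∀ i, D ≤ Y i
  YN : ∀ i, Y i ≤ normalizer (N i : Set G)
  YQ : ∀ i, Y i ≤ normalizer ((O ⊓ centralizer (N i : Set G) : Subgroup G) : Set G)
  NE : ∀ i, N i ≤ EE ZJ (Y i)
  N1 : ∀ i, N i ≠ ⊥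
  no : ∀ i, NoOn O (N i)
  ab : ∀ v, IsElementaryAbelian 2 (Ev ZJ Y v)
  EO : ∀ v, Ev ZJ Y v ≤ O
  gen : ∀ (i : ι) (K : Subgroup G), K ≤ Y i → Y i ≤ normalizer (K : Set G) → ¬ K ≤ centralizer (N i : Set G) →
    Y i ≤ D ⊔ K
  nl : ∀ U : Subgroup G, U ≤ O → (∀ i, Y i ≤ normalizer (U : Set G)) → U = ⊥

/-- `Y i` normalises `X N_i` for all `D`-invariant `X ≤ E v`. -/
def Dom (D ZJ : Subgroup G) (Y N : ι → Subgroup G) (i v : ι) : Prop :=
  ∀ X : Subgroup G, X ≤ Ev ZJ Y v → D ≤ normalizer (X : Set G) → Y i ≤ normalizer ((X ⊔ N i : Subgroup G) : Set G)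

/-- Conjugation by `g` induces `π`. -/
structure Ac (D ZJ : Subgroup G) (Y N : ι → Subgroup G) (g : G) (π : Equiv.Perm ι) : Prop where
  zj : cj g ZJ = ZJ
  d : cj g D = D
  y : ∀ i, cj g (Y i) = Y (π i)
  n : ∀ i, cj g (N i) = N (π i)

theorem cj_supC (g : G) (A B : Subgroup G) : cj g (A ⊔ B) = cj g A ⊔ cj g B := Subgroup.map_sup _ _ _

theorem le_norm_sup {H A B : Subgroup G} (hA : H ≤ normalizer (A : Set G)) (hB : H ≤ normalizer (B : Set G)) :
    H ≤ normalizer ((A ⊔ B : Subgroup G) : Set G) := by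
  refine le_norm_of_cj_le fun g hg => ?_
  rw [cj_supC, cj_eq_of_mem_normalizer (hA hg), cj_eq_of_mem_normalizer (hB hg)]

theorem le_norm_iSup {H : Subgroup G} {κ : Sort*} {f : κ → Subgroup G} (h : ∀ k, H ≤ normalizer (f k : Set G)) :
    H ≤ normalizer ((⨆ k, f k : Subgroup G) : Set G) := by
  refine le_norm_of_cj_le fun g hg => cj_iSup_le fun k => ?_
  rw [cj_eq_of_mem_normalizer (h k hg)]
  exact le_iSup f k

variable {O D ZJ : Subgroup G} {Y N : ι → Subgroup G}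

theorem Y_le_norm_Ev {i v : ι} (hiv : i ≠ v) : Y i ≤ normalizer (Ev ZJ Y v : Set G) :=
  (le_iSup (fun i : {i // i ≠ v} => Y i) ⟨i, hiv⟩).trans (norm_EE _ _)

namespace Dl

variable (h : Dl O D ZJ Y N)
include h

theorem N_le_Ev {i v : ι} (hiv : i ≠ v) : N i ≤ Ev ZJ Y v :=
  (h.NE i).trans (EE_mono (le_iSup (fun i : {i // i ≠ v} => Y i) ⟨i, hiv⟩))

theorem D_norm (i : ι) : D ≤ normalizer (N i : Set G) := (h.DY i).trans (h.YN i)

theorem OY (i : ι) : O ≤ Y i := h.OD.trans (h.DY i)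

theorem D_norm_EE {i : ι} {H : Subgroup G} (hH : Y i ≤ H) : D ≤ normalizer (EE ZJ H : Set G) :=
  ((h.DY i).trans hH).trans (norm_EE _ _)

theorem toDt (v : ι) : EK3.Lever.Dt O (Ev ZJ Y v) ZJ (fun i : {i // i ≠ v} => Y i) fun i : {i // i ≠ v} => N i where
  ab := (eab_iff.1 (h.ab v)).1
  OY i := h.OY i
  YE i := Y_le_norm_Ev i.2
  OZ := h.OZ
  gen := le_rfl
  NE i := h.N_le_Ev i.2
  YN i := h.YN i
  YQ i := h.YQ i
  no i := h.no i

variable [Finite G]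

theorem norm_jj {H Q : Subgroup G} (hH : H ≤ normalizer (Q : Set G)) : H ≤ normalizer (jj Q : Set G) := by
  intro g hg
  rw [mem_normalizer_iff_cj, ← jj_cj, cj_eq_of_mem_normalizer (hH hg)]

/-- some `A ∈ AA(O)` moves some `N i` -/
theorem exists_AA (hι : ∀ i : ι, ∃ j, j ≠ i) [Nonempty ι] : ∃ A ∈ AA O, ∃ i, ¬ A ≤ centralizer (N i : Set G) := by
  by_contra hcon
  push Not at hcon
  have hNO : ∀ i, N i ≤ O := fun i => by
    obtain ⟨j, hj⟩ := hι i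
    exact (h.N_le_Ev hj.symm).trans (h.EO j)
  have hNe : ∀ i, IsElementaryAbelian 2 (N i) := fun i => by
    obtain ⟨j, hj⟩ := hι i
    exact eab_mono (h.ab j) (h.N_le_Ev hj.symm)
  have e : ∀ i, jj (O ⊓ centralizer (N i : Set G)) = jj O := fun i => by
    refine le_antisymm (EK3.Rank.jj_inf_le (hNe i) (hNO i) (h.no i)) ?_
    rw [jj_eq]
    exact sSup_le fun A hA => le_jj (EK3.Rank.mem_inf_of_mem_AA (hNe i) (hNO i) (h.no i) hA (hcon A hA i))
  have h1 : jj O = ⊥ := by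
    refine h.nl _ (ChoiceBase.jj_le _) fun i => ?_
    rw [← e i]
    exact norm_jj h (h.YQ i)
  obtain ⟨i⟩ := ‹Nonempty ι›
  apply h.N1 i
  obtain ⟨A, hA⟩ := AA_nonempty O
  have h2 : A = ⊥ := by
    rw [eq_bot_iff, ← h1]
    exact le_jj hA
  have h3 := card_le_mm (hNe i) (hNO i)
  rw [mm_eq hA, h2, card_bot] at h3
  exact Subgroup.card_eq_one.1 (le_antisymm h3 Nat.card_pos)

/-- **the lever** -/
theorem exists_dom {v : ι} {A : Subgroup G} (hA : A ∈ AA O) (hmv : ¬ A ≤ centralizer (Ev ZJ Y v : Set G))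
    (hDE : D ≤ normalizer (Ev ZJ Y v : Set G)) : ∃ i, i ≠ v ∧ Dom D ZJ Y N i v := by
  have hoff := EK3.Lever.offd_of_AA (h.ab v) (h.EO v) hA ((hA.2.1.trans h.OD).trans hDE) hmv
  obtain ⟨⟨i, hiv⟩, F, hFO, -, hFm, hFc⟩ := (h.toDt v).lever hA.2.1 hA.1 hoff
  refine ⟨i, hiv, fun X hX hDX => ?_⟩
  have hFY : F ≤ Y i := hFO.trans (h.OY i)
  set K : Subgroup G := EE F (Y i) with hK
  have hKY : K ≤ Y i := EE_le fun y hy => by
    have := cj_mono y hFY
    rwa [cj_eq_of_mem_normalizer (Subgroup.le_normalizer hy)] at this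
  have hYK : Y i ≤ normalizer (K : Set G) := norm_EE _ _
  have hKm : ¬ K ≤ centralizer (N i : Set G) := fun hc => hFm ((le_EE _ _).trans hc)
  refine (h.gen i K hKY hYK hKm).trans (sup_le (le_norm_sup hDX (h.D_norm i)) ?_)
  refine EE_le fun y hy => ?_
  refine le_norm_of_cj_le fun k hk => ?_
  have hkY : k ∈ Y i := hKY (cj_le_EE hy hk)
  rw [cj_supC]
  refine sup_le ?_ ?_
  · rintro _ ⟨x, hx, rfl⟩
    change k * x * k⁻¹ ∈ _
    obtain ⟨f, hf, rfl⟩ := hk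
    change (y * f * y⁻¹) * x * (y * f * y⁻¹)⁻¹ ∈ _
    have h1 : y⁻¹ * x * y ∈ Ev ZJ Y v := by
      have := (mem_normalizer_iff.1 (Y_le_norm_Ev (ZJ := ZJ) (Y := Y) hiv (inv_mem hy)) x).1 (hX hx)
      rwa [inv_inv] at this
    have h2 := hFc _ h1 f hf
    have h3 := (mem_normalizer_iff.1 (h.YN i hy) _).1 (inv_mem h2)
    have e : (y * f * y⁻¹) * x * (y * f * y⁻¹)⁻¹ = (y * ⁅y⁻¹ * x * y, f⁆⁻¹ * y⁻¹) * x := by
      rw [commutatorElement_def]
      group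
    rw [e]
    exact mul_mem (mem_sup_right h3) (mem_sup_left hx)
  · rw [cj_eq_of_mem_normalizer (h.YN i hkY)]
    exact le_sup_right

end Dl

section ac

variable {g : G} {π : Equiv.Perm ι} (a : Ac D ZJ Y N g π)
include a

theorem Ac.ev (v : ι) : cj g (Ev ZJ Y v) = Ev ZJ Y (π v) := by
  have key : ∀ {g : G} {π : Equiv.Perm ι}, Ac D ZJ Y N g π → ∀ v, cj g (Ev ZJ Y v) ≤ Ev ZJ Y (π v) := by
    intro g π a v
    refine cj_iSup_le fun y => ?_
    have h1 : cj g (⨆ i : {i // i ≠ v}, Y i) ≤ ⨆ i : {i // i ≠ π v}, Y i := by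
      refine cj_iSup_le fun i => ?_
      rw [a.y]
      exact le_iSup (fun i : {i // i ≠ π v} => Y i) ⟨π i, fun e => i.2 (π.injective e)⟩
    have h2 : g * y * g⁻¹ ∈ (⨆ i : {i // i ≠ π v}, Y i : Subgroup G) := h1 ⟨y, y.2, rfl⟩
    have e : cj g (cj (y : G) ZJ) = cj (g * y * g⁻¹) ZJ := by
      conv_rhs => rw [← a.zj]
      rw [cj_cj, cj_cj]
      congr 1
      group
    rw [e]
    exact cj_le_EE h2
  refine le_antisymm (key a v) ?_
  have hinv : Ac D ZJ Y N g⁻¹ π.symm :=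
    { zj := by conv_lhs => rw [← a.zj, cj_inv_cj]
      d := by conv_lhs => rw [← a.d, cj_inv_cj]
      y := fun i => by
        have := a.y (π.symm i)
        rw [Equiv.apply_symm_apply] at this
        rw [← this, cj_inv_cj]
      n := fun i => by
        have := a.n (π.symm i)
        rw [Equiv.apply_symm_apply] at this
        rw [← this, cj_inv_cj] }
  have h1 := cj_mono g (key hinv (π v))
  rwa [cj_cj_inv, Equiv.symm_apply_apply] at h1

theorem Ac.dom {i v : ι} (hd : Dom D ZJ Y N i v) : Dom D ZJ Y N (π i) (π v) := by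
  intro X hX hDX
  have h1 : cj g⁻¹ X ≤ Ev ZJ Y v := by
    have := cj_mono g⁻¹ hX
    rwa [← a.ev, cj_inv_cj] at this
  have h2 : D ≤ normalizer (cj g⁻¹ X : Set G) := by
    have := cj_mono g⁻¹ hDX
    rw [cj_normalizer] at this
    rwa [← a.d, cj_inv_cj] at this
  have h3 := cj_mono g (hd _ h1 h2)
  rwa [cj_normalizer, cj_supC, cj_cj_inv, a.y, a.n] at h3

end ac

variable [Finite G]

/-- **THEOREM DELTA with brothers.** -/
theorem Dl.false_of_brother (h : Dl O D ZJ Y N) [Nonempty ι] (σ : ι → ι) (hσ : ∀ i, σ i ≠ i) (hσσ : ∀ i, σ (σ i) = i)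
    (h3 : ∀ i, ∃ j, j ≠ i ∧ j ≠ σ i)
    (tr : ∀ i j, ∃ (g : G) (π : Equiv.Perm ι), Ac D ZJ Y N g π ∧ π i = j ∧ ∀ l, π (σ l) = σ (π l))
    (sw : ∀ v, ∃ (g : G) (π : Equiv.Perm ι), Ac D ZJ Y N g π ∧ π v = σ v ∧ ∀ u, u ≠ v → u ≠ σ v → π u = u) : False := by
  have hι : ∀ i : ι, ∃ j, j ≠ i := fun i => ⟨σ i, hσ i⟩
  -- `Dom i v` for some `i ≠ v`
  obtain ⟨i, v, hiv, hd⟩ : ∃ i v, i ≠ v ∧ Dom D ZJ Y N i v := by
    obtain ⟨A, hA, j, hj⟩ := h.exists_AA hι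
    obtain ⟨i, hi, hd⟩ := h.exists_dom (v := σ j) hA (fun hc => hj (hc.trans (centralizer_le
      (h.N_le_Ev (hσ j).symm)))) (h.D_norm_EE (le_iSup (fun i : {i // i ≠ σ j} => Y i) ⟨j, (hσ j).symm⟩))
    exact ⟨i, _, hi, hd⟩
  by_cases hv : v = σ i
  · -- `Dom j (σ j)` for all `j`
    have hall : ∀ j, Dom D ZJ Y N j (σ j) := fun j => by
      obtain ⟨g, π, a, hπ, hπσ⟩ := tr i j
      have := a.dom hd
      rwa [hv, hπσ, hπ] at this
    set X : ι → Subgroup G := fun u => EE ZJ (Y u ⊔ Y (σ u)) with hX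
    have hN : ∀ u, N u ≤ X u := fun u => (h.NE u).trans (EE_mono le_sup_left)
    have hN' : ∀ u, N (σ u) ≤ X u := fun u => (h.NE _).trans (EE_mono le_sup_right)
    have hXE : ∀ u v, v ≠ u → v ≠ σ u → X u ≤ Ev ZJ Y v := fun u v h1 h2 =>
      EE_mono (sup_le (le_iSup (fun i : {i // i ≠ v} => Y i) ⟨u, h1.symm⟩)
        (le_iSup (fun i : {i // i ≠ v} => Y i) ⟨σ u, h2.symm⟩))
    have hW : (⨆ u, X u) = ⊥ := by
      refine h.nl _ (iSup_le fun u => ?_) fun i => ?_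
      · obtain ⟨v, h1, h2⟩ := h3 u
        exact (hXE u v h1 h2).trans (h.EO v)
      · have e : (⨆ u, X u) = ⨆ u, (X u ⊔ N i) := by
          apply le_antisymm
          · exact iSup_mono fun u => le_sup_left
          · exact iSup_le fun u => sup_le (le_iSup X u) ((hN i).trans (le_iSup X i))
        rw [e]
        refine le_norm_iSup fun u => ?_
        by_cases h1 : u = i
        · subst h1
          rw [sup_eq_left.2 (hN u)]
          exact le_sup_left.trans (norm_EE ZJ (Y u ⊔ Y (σ u)))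
        by_cases h2 : i = σ u
        · subst h2
          rw [sup_eq_left.2 (hN' u)]
          exact le_sup_right.trans (norm_EE ZJ (Y u ⊔ Y (σ u)))
        · refine hall i _ (hXE u (σ i) ?_ ?_) (h.D_norm_EE (i := u) le_sup_left)
          · intro e1
            apply h2
            rw [← e1, hσσ]
          · intro e1
            apply h1
            have := congrArg σ e1
            rw [hσσ, hσσ] at this
            exact this.symm
    apply h.N1 i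
    rw [eq_bot_iff, ← hW]
    exact (hN i).trans (le_iSup X i)
  · -- two different `v`
    obtain ⟨g, π, a, hπ, hπ'⟩ := sw v
    have hd' := a.dom hd
    rw [hπ, hπ' i hiv (fun e => hv (by rw [e, hσσ]))] at hd'
    have hall : ∀ j, ∃ w w', w ≠ w' ∧ Dom D ZJ Y N j w ∧ Dom D ZJ Y N j w' := fun j => by
      obtain ⟨g, π, a, hπ, -⟩ := tr i j
      refine ⟨π v, π (σ v), fun e => hσ v (π.injective e).symm, ?_, ?_⟩
      · have := a.dom hd
        rwa [hπ] at this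
      · have := a.dom hd'
        rwa [hπ] at this
    have hW : (⨆ u, N u) = ⊥ := by
      refine h.nl _ (iSup_le fun u => ?_) fun i => ?_
      · exact (h.N_le_Ev (hσ u).symm).trans (h.EO _)
      · have e : (⨆ u, N u) = ⨆ u, (N u ⊔ N i) := by
          apply le_antisymm
          · exact iSup_mono fun u => le_sup_left
          · exact iSup_le fun u => sup_le (le_iSup N u) (le_iSup N i)
        rw [e]
        refine le_norm_iSup fun u => ?_
        obtain ⟨w, w', hne, h1, h2⟩ := hall i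
        by_cases hw : u = w
        · exact h2 _ (h.N_le_Ev (fun e => hne (hw.symm.trans e))) (h.D_norm u)
        · exact h1 _ (h.N_le_Ev hw) (h.D_norm u)
    apply h.N1 i
    rw [eq_bot_iff, ← hW]
    exact le_iSup N i

end Cfsg.Agent.Omega.EDel

end

section


/-!
# THEOREM DELTA: the setting `Dl` of `EDel/Core.lean` over `Zf`
-/

set_option autoImplicit false
set_option linter.unusedSectionVars false

namespace Cfsg.Agent.Omega.EDel

open Subgroup Cfsg Cfsg.Agent.ZN.ChoiceBase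
open Cfsg.Agent.ZN (zc zl o2 jj)
open Cfsg.Agent.Omega.EK3 (CT mem_CT CT_mono)
open Cfsg.Agent.Omega.EK3.StarE (EE EE_le EE_mono le_EE norm_EE cj_le_EE)

universe u

variable {G : Type u} [Group G] {ι : Type} {B Q V X ZJ : Subgroup G} {L W Z C A : ι → Subgroup G} {z : ι → G}

namespace Zf

variable (h : Zf B Q V X ZJ L W Z C A z) [Finite G] [Finite ι]
include h

section Y

variable {Y : ι → Subgroup G} (hYT : ∀ i, Y i ≤ CT z ({i} : Set ι)ᶜ)
include hYT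

theorem Ev_el (v : ι) : IsElementaryAbelian 2 (Ev ZJ Y v) :=
  h.E_el (T := {v}) (Set.singleton_nonempty v)
    (iSup_le_CT hYT (f := fun i : {i // i ≠ v} => (i : ι)) fun i hi => i.2 hi)

theorem Ev_le_O (v : ι) : Ev ZJ Y v ≤ o2 (centralizer (ZJ : Set G)) :=
  h.E_le_O (T := {v}) (Set.singleton_nonempty v)
    (iSup_le_CT hYT (f := fun i : {i // i ≠ v} => (i : ι)) fun i hi => i.2 hi)

end Y

/-- **The setting `Dl` of the core**, from `(NO)`, `(QP)` (`¬ K ≤ D`) and `(NL)`, for any `D ≤ Y i ≤ C_G(z_l : l ≠ i)`,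
`N i = ⟨z_i^(Y i)⟩`. -/
theorem dl {Y : ι → Subgroup G} (hDY : ∀ i, centralizer (ZJ : Set G) ≤ Y i) (hYT : ∀ i, Y i ≤ CT z ({i} : Set ι)ᶜ)
    (no : ∀ i, EK3.Rank.NoOn (o2 (centralizer (ZJ : Set G))) (EE (zpowers (z i)) (Y i)))
    (gen : ∀ (i : ι) (K : Subgroup G), K ≤ Y i → Y i ≤ normalizer (K : Set G) → ¬ K ≤ centralizer (ZJ : Set G) →
      Y i ≤ centralizer (ZJ : Set G) ⊔ K)
    (nl : ∀ U : Subgroup G, U ≤ o2 (centralizer (ZJ : Set G)) → (∀ i, Y i ≤ normalizer (U : Set G)) → U = ⊥) :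
    Dl (o2 (centralizer (ZJ : Set G))) (centralizer (ZJ : Set G)) ZJ Y (fun i => EE (zpowers (z i)) (Y i)) where
  OD := Cfsg.Agent.ZN.o2_le _
  OZ := Cfsg.Agent.ZN.o2_le _
  DY := hDY
  YN i := norm_EE _ _
  YQ i := h.YQ (hDY i) (hYT i)
  NE i := h.N_le_EE i _
  N1 i := h.N_ne i _
  no := no
  ab := h.Ev_el hYT
  EO := h.Ev_le_O hYT
  gen i K hKY hYK hKN := gen i K hKY hYK fun hKD => hKN (h.le_cent_N hKD hYK)
  nl := nl

end Zf

end Cfsg.Agent.Omega.EDel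

end

section


/-!
# `B` is Sylow in `C_G(z_n : n ≠ l, m)` (bb #24127 (2))

`B` Sylow in `D = C_G(z_n : all n)`, `N_G(B)` permutes the `z_n` and contains no element which interchanges `z_l`, `z_m`
and fixes the other ones.
-/

set_option autoImplicit false

namespace Cfsg.Agent.Omega.EDel.SylB

open Subgroup
open Cfsg.Agent.ZN.ChoiceSit (Syl syl_not_dvd)

variable {G : Type*} [Group G]

/-- a `2`-group which is its own normaliser in every larger `2`-group of `X` is Sylow in `X` -/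
theorem syl_of_nc [Finite G] {B X : Subgroup G} (hBX : B ≤ X) (hB : IsPGroup 2 B)
    (h : ∀ Q : Subgroup G, Q ≤ X ⊓ normalizer (B : Set G) → IsPGroup 2 Q → B ≤ Q → Q = B) : Syl B X := by
  refine ⟨hBX, hB, fun Q hQ hp hle => ?_⟩
  by_contra hne
  have hn : ¬ Q ⊓ normalizer (B : Set G) ≤ B := by
    intro h0
    have hf : Fact (Nat.Prime 2) := ⟨Nat.prime_two⟩
    have hlt : B < Q := lt_of_le_of_ne hle fun h => hne h.symm
    have h1 : B.subgroupOf Q < ⊤ := by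
      refine lt_top_iff_ne_top.2 fun h2 => ?_
      exact hlt.not_ge (subgroupOf_eq_top.1 h2)
    have h2 := hp.isNilpotent
    have h3 := Group.normalizerCondition_of_isNilpotent (G := Q) _ h1
    refine h3.not_ge ?_
    intro x hx
    rw [mem_subgroupOf]
    refine h0 ⟨x.2, ?_⟩
    rw [mem_normalizer_iff] at hx
    refine mem_normalizer_iff.2 fun y => ?_
    constructor
    · intro hy
      exact (hx ⟨y, hle hy⟩).1 hy
    · intro hy
      have hyQ : y ∈ Q := by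
        have h4 := Q.mul_mem (Q.mul_mem (Q.inv_mem x.2) (hle hy)) x.2
        have e : (x : G)⁻¹ * (x * y * (x : G)⁻¹) * x = y := by group
        rwa [e] at h4
      exact (hx ⟨y, hyQ⟩).2 hy
  refine hn (h _ (inf_le_inf hQ le_rfl) (hp.to_le inf_le_left) (le_inf hle le_normalizer)).le

variable {ι : Type*} {z : ι → G} {B : Subgroup G} {l m : ι}

/-- `N_G(B) ∩ C_G(z_n : n ≠ l, m) ≤ D` -/
theorem nB (hinj : Function.Injective z)
    (hN : ∀ g ∈ normalizer (B : Set G), ∃ σ : Equiv.Perm ι, ∀ i, g * z i * g⁻¹ = z (σ i))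
    (hsw : ¬ ∃ g ∈ normalizer (B : Set G), ∃ σ : Equiv.Perm ι, (∀ i, g * z i * g⁻¹ = z (σ i)) ∧ σ l = m ∧ σ m = l ∧
      ∀ n, n ≠ l → n ≠ m → σ n = n) :
    centralizer (z '' {n | n ≠ l ∧ n ≠ m}) ⊓ normalizer (B : Set G) ≤ centralizer (Set.range z) := by
  rintro g ⟨hg, hgB⟩
  obtain ⟨σ, hσ⟩ := hN g hgB
  have hfix : ∀ n, n ≠ l → n ≠ m → σ n = n := fun n h1 h2 => by
    apply hinj
    rw [← hσ n, mul_inv_eq_iff_eq_mul]
    exact (mem_centralizer_iff.1 hg (z n) ⟨n, ⟨h1, h2⟩, rfl⟩).symm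
  have hlm : σ l = l ∨ σ l = m := by
    by_contra hcon
    push Not at hcon
    have h1 := hfix (σ l) hcon.1 hcon.2
    exact hcon.1 (σ.injective h1)
  have hml : σ m = m ∨ σ m = l := by
    by_contra hcon
    push Not at hcon
    have h1 := hfix (σ m) hcon.2 hcon.1
    exact hcon.1 (σ.injective h1)
  have hl : σ l = l ∧ σ m = m := by
    rcases hlm with h1 | h1
    · refine ⟨h1, ?_⟩
      rcases hml with h2 | h2
      · exact h2
      · have h3 : m = l := σ.injective (h2.trans h1.symm)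
        rw [h3]; exact h1
    · rcases hml with h2 | h2
      · have h3 : l = m := σ.injective (h1.trans h2.symm)
        rw [h3]; exact ⟨h2, h2⟩
      · exact absurd ⟨g, hgB, σ, hσ, h1, h2, hfix⟩ hsw
  have hall : ∀ n, σ n = n := fun n => by
    by_cases h1 : n = l
    · rw [h1]; exact hl.1
    · by_cases h2 : n = m
      · rw [h2]; exact hl.2
      · exact hfix n h1 h2
  refine mem_centralizer_iff.2 ?_
  rintro _ ⟨n, rfl⟩
  have h1 := hσ n
  rw [hall n, mul_inv_eq_iff_eq_mul] at h1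
  exact h1.symm

/-- **(2)** `B` is Sylow in `C_G(z_n : n ≠ l, m)` -/
theorem syl [Finite G] (hB : Syl B (centralizer (Set.range z))) (hinj : Function.Injective z)
    (hN : ∀ g ∈ normalizer (B : Set G), ∃ σ : Equiv.Perm ι, ∀ i, g * z i * g⁻¹ = z (σ i))
    (hsw : ¬ ∃ g ∈ normalizer (B : Set G), ∃ σ : Equiv.Perm ι, (∀ i, g * z i * g⁻¹ = z (σ i)) ∧ σ l = m ∧ σ m = l ∧
      ∀ n, n ≠ l → n ≠ m → σ n = n) :
    Syl B (centralizer (z '' {n | n ≠ l ∧ n ≠ m})) := by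
  refine syl_of_nc (hB.1.trans (centralizer_le (Set.image_subset_range _ _))) hB.2.1 fun Q hQ hp hle => ?_
  exact hB.2.2 Q (hQ.trans (nB hinj hN hsw)) hp hle

theorem not_dvd [Finite G] (hB : Syl B (centralizer (Set.range z))) (hinj : Function.Injective z)
    (hN : ∀ g ∈ normalizer (B : Set G), ∃ σ : Equiv.Perm ι, ∀ i, g * z i * g⁻¹ = z (σ i))
    (hsw : ¬ ∃ g ∈ normalizer (B : Set G), ∃ σ : Equiv.Perm ι, (∀ i, g * z i * g⁻¹ = z (σ i)) ∧ σ l = m ∧ σ m = l ∧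
      ∀ n, n ≠ l → n ≠ m → σ n = n) :
    ¬ 2 ∣ B.relIndex (centralizer (z '' {n | n ≠ l ∧ n ≠ m})) := syl_not_dvd (syl hB hinj hN hsw)

end Cfsg.Agent.Omega.EDel.SylB

end

section


/-!
# THEOREM U (#24127, helper23), (3): SIGMA inside a local group in which `B` is Sylow

`B` a Sylow 2-subgroup of `Y`, `Y` of characteristic 2, `Z = Ω₁(Z(B))`, `A` elementary abelian of maximal order in
`O ≥ U = ⟨Z^Y⟩`, moving `U`.

* `Sig c B Y O A` : this, every `B`-minimal `P ≤ Y` has `|Z : C_Z(P)| ≤ c` and centralises a `z ∈ Z` with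
  `A ≤ O₂(C_Y(z))`;
* `Sig.zpre` : the input `ZR.ZPre c` of the END (helper636) for `Y` acting on `U`;
* **`Sig.false_of`** : `Sig 2` is impossible (EXT);
* `Two z₁ z₂ B Y O A` : `Z = C_Z(Y)⟨z₁, z₂⟩`, every `B`-minimal `P ≤ Y` centralises `z₁` or `z₂`, `A ≤ O₂(C_Y(z₁)) ∩
  O₂(C_Y(z₂))`; `Two.sig : Sig 2`, **`Two.false_of`**.
-/

set_option autoImplicit false
set_option linter.unusedSectionVars false

namespace Cfsg.Agent.Omega.EDel.USig

open Subgroup Cfsg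
open Cfsg.Agent.ZN (o2 zc zl)
open Cfsg.Agent.ClassTwoFusion.Quad Cfsg.Agent.Omega.ML.MinFrame
open Cfsg.Agent.MinSimple.MinParabolic (IsMinPar)
open Cfsg.Agent.MinSimple.VModule (mem_zc zc_le zl_le zc_le_zl le_normalizer_zl le_o2 o2_isPGroup o2_le
  le_normalizer_o2 zl_le_zc zc_sq le_centralizer_zc normalizer_le_normalizer_zc)
open Cfsg.Agent.Omega.NoFF.ThmJQ (MxIn)
open Cfsg.Agent.Omega.NoFF.ThmJFam (Ex card_sup_inf)
open Cfsg.Agent.Omega.NoFF.Basic (comm_symm comm_mono)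
open Cfsg.Agent.Omega.KL.ZR (ZPre)
open Cfsg.Agent.Omega.ML.Final (MLK)
open Cfsg.Agent.Omega.ML.Ex.Two (Ext)

universe u

variable {G : Type u} [Group G]

/-- **The setting.** -/
structure Sig (c : ℕ) (B Y O A : Subgroup G) : Prop where
  p2 : IsPGroup 2 B
  BY : B ≤ Y
  syl : ¬ 2 ∣ B.relIndex Y
  char2 : Y ⊓ centralizer (o2 Y : Set G) ≤ o2 Y
  KY : IsKGroup Y
  OY : O ≤ Y
  UO : zl B Y ≤ O
  mx : MxIn O A
  mv : ¬ A ≤ centralizer (zl B Y : Set G)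
  par : ∀ P : Subgroup G, IsMinPar B P → P ≤ Y → (zc B ⊓ centralizer (P : Set G)).relIndex (zc B) ≤ c
  fix : ∀ P : Subgroup G, IsMinPar B P → P ≤ Y →
    ∃ z ∈ zc B, P ≤ centralizer ({z} : Set G) ∧ A ≤ o2 (Y ⊓ centralizer ({z} : Set G))
  good : ∃ z ∈ zc B, A ≤ o2 (Y ⊓ centralizer ({z} : Set G))

/-- conjugation -/
abbrev actU {C X : Subgroup G} (h : C ≤ normalizer (X : Set G)) : MulDistribMulAction C X where
  smul c x := ⟨c * x * (c : G)⁻¹, (mem_normalizer_iff.1 (h c.2) x).1 x.2⟩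
  one_smul x := Subtype.ext (by change ((1 : C) : G) * x * ((1 : C) : G)⁻¹ = x; simp)
  mul_smul a b x := Subtype.ext (by
    change ((a * b : C) : G) * x * ((a * b : C) : G)⁻¹ = a * (b * x * (b : G)⁻¹) * (a : G)⁻¹
    push_cast; group)
  smul_mul c x y := Subtype.ext (by
    change (c : G) * ((x * y : X) : G) * (c : G)⁻¹ = (c * x * (c : G)⁻¹) * (c * y * (c : G)⁻¹)
    push_cast; group)
  smul_one c := Subtype.ext (by change (c : G) * ((1 : X) : G) * (c : G)⁻¹ = ((1 : X) : G); simp)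

namespace Sig

section

variable [Finite G] {c : ℕ} {B Y O A : Subgroup G} (h : Sig c B Y O A)
include h

theorem zl_le_zc : zl B Y ≤ zc (o2 Y) := MinSimple.VModule.zl_le_zc h.BY h.p2 h.syl h.char2

theorem ex_zl : Ex (zl B Y) := fun _ hx => (mem_zc.1 (h.zl_le_zc hx)).2.2

theorem AY : A ≤ Y := h.mx.2.1.trans h.OY

/-- Thompson -/
theorem card_le : Nat.card (zl B Y) * Nat.card (A ⊓ centralizer (zl B Y : Set G) : Subgroup G) ≤
    Nat.card A * Nat.card (zl B Y ⊓ centralizer (A : Set G) : Subgroup G) := by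
  have h1 := h.mx.2.2 _ (Ex.sup h.ex_zl (h.mx.1.mono inf_le_left)
    (comm_symm (inf_le_right : A ⊓ centralizer (zl B Y : Set G) ≤ _)))
    (sup_le h.UO (inf_le_left.trans h.mx.2.1))
  have h2 := card_sup_inf (A := zl B Y) (B := A ⊓ centralizer (zl B Y : Set G)) (comm_symm inf_le_right)
  have h3 : Nat.card (zl B Y ⊓ (A ⊓ centralizer (zl B Y : Set G)) : Subgroup G) ≤
      Nat.card (zl B Y ⊓ centralizer (A : Set G) : Subgroup G) :=
    Subgroup.card_le_of_le (inf_le_inf le_rfl (inf_le_left.trans h.mx.1.comm))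
  rw [← h2]
  exact Nat.mul_le_mul h1 h3

theorem relIndex_le : (centralizer (A : Set G)).relIndex (zl B Y) ≤ (centralizer (zl B Y : Set G)).relIndex A :=
  FFThm.relIndex_le_iff.1 h.card_le

/-- **The input of the END.** -/
theorem zpre : letI := actU (le_normalizer_zl B Y)
    ZPre c (B.subgroupOf Y) (A.subgroupOf Y) ((zc B).subgroupOf (zl B Y)) := by
  let := actU (le_normalizer_zl B Y)
  change ZPre c (B.subgroupOf Y) (A.subgroupOf Y) ((zc B).subgroupOf (zl B Y))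
  have hZU : zc B ≤ (zl B Y) := zc_le_zl _ _
  have hsm : ∀ (g : Y) (m : (zl B Y)), ((g • m : (zl B Y)) : G) = g * m * (g : G)⁻¹ := fun _ _ => rfl
  have hfix : ∀ (g : Y) (m : (zl B Y)), g • m = m ↔ (m : G) * g = g * m := by
    intro g m
    rw [Subtype.ext_iff, hsm, mul_inv_eq_iff_eq_mul, eq_comm]
  have hst : ∀ (m : (zl B Y)) (g : Y), g ∈ MulAction.stabilizer Y m ↔ (g : G) ∈ Y ⊓ centralizer ({(m : G)} : Set G) := by
    intro m g
    rw [MulAction.mem_stabilizer_iff, hfix, mem_inf, mem_centralizer_singleton_iff]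
    exact ⟨fun e => ⟨g.2, e.symm⟩, fun e => e.2.symm⟩
  have hcv : ∀ P : Subgroup Y, (zc B).subgroupOf (zl B Y) ⊓ cv (zl B Y) (P : Set Y) =
      (zc B ⊓ centralizer ((P.map Y.subtype : Subgroup G) : Set G)).subgroupOf (zl B Y) := by
    intro P
    ext m
    rw [mem_inf, mem_subgroupOf, mem_subgroupOf, mem_inf, mem_centralizer_iff]
    refine and_congr_right fun _ => ⟨?_, ?_⟩
    · rintro hm _ ⟨p, hp, rfl⟩
      exact ((hfix p m).1 (hm p hp)).symm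
    · intro hm p hp
      exact (hfix p m).2 (hm p (mem_map_of_mem Y.subtype hp)).symm
  refine ⟨⟨?_, ?_, ?_, ?_, ?_, ?_⟩, ?_, ?_, ?_, ?_, ?_, ?_, h.KY⟩
  · intro m
    apply Subtype.ext
    have := h.ex_zl m m.2
    rw [pow_two] at this
    exact this
  · exact h.p2.comap_of_injective Y.subtype Y.subtype_injective
  · exact h.syl
  · intro t ht z hz
    rw [hfix]
    exact ((mem_zc.1 (mem_subgroupOf.1 hz)).2.1 t (mem_subgroupOf.1 ht)).symm
  · intro g hg z hz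
    refine mem_subgroupOf.2 ?_
    rw [hsm]
    have hgB : (g : G) ∈ normalizer (B : Set G) := by
      rw [mem_normalizer_iff]
      intro t
      constructor
      · intro ht
        exact (mem_normalizer_iff.1 hg ⟨t, h.BY ht⟩).1 ht
      · intro ht
        have h1 : (g : G)⁻¹ * ((g : G) * t * (g : G)⁻¹) * (g : G)⁻¹⁻¹ ∈ B :=
          (mem_normalizer_iff.1 (inv_mem hg) ⟨(g : G) * t * (g : G)⁻¹, h.BY ht⟩).1 ht
        have e : (g : G)⁻¹ * ((g : G) * t * (g : G)⁻¹) * (g : G)⁻¹⁻¹ = t := by group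
        rwa [e] at h1
    exact (mem_normalizer_iff.1 (normalizer_le_normalizer_zc B hgB) _).1 (mem_subgroupOf.1 hz)
  · intro P hP
    rw [hcv, relIndex_subgroupOf hZU]
    exact h.par _ (KL.Plug.minPar_map h.BY hP) (map_subtype_le P)
  · rw [eq_top_iff]
    intro m _
    set V : Subgroup (zl B Y) := ⨆ z : (zc B).subgroupOf (zl B Y), orb (⊤ : Subgroup Y) (z : (zl B Y)) with hV
    have h1 : (zl B Y) ≤ V.map (zl B Y).subtype := by
      refine zl_le ?_ ?_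
      · intro z hz
        refine ⟨⟨z, hZU hz⟩, ?_, rfl⟩
        exact le_iSup (fun z : (zc B).subgroupOf (zl B Y) => orb (⊤ : Subgroup Y) (z : (zl B Y)))
          ⟨⟨z, hZU hz⟩, mem_subgroupOf.2 hz⟩ (mem_orb_self _ _)
      · have hVg : ∀ g : Y, ∀ v ∈ V, g • v ∈ V := by
          intro g v hv
          have h2 : V ≤ V.comap (MulDistribMulAction.toMonoidHom (zl B Y) g) := by
            refine iSup_le fun z => ?_
            intro w hw
            exact le_iSup (fun z : (zc B).subgroupOf (zl B Y) => orb (⊤ : Subgroup Y) (z : (zl B Y))) z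
              (smul_mem_orb (mem_top g) hw)
          exact h2 hv
        intro g hg
        rw [mem_normalizer_iff]
        intro x
        constructor
        · rintro ⟨v, hv, rfl⟩
          exact ⟨(⟨g, hg⟩ : Y) • v, hVg _ v hv, rfl⟩
        · rintro ⟨v, hv, hvx⟩
          refine ⟨(⟨g, hg⟩ : Y)⁻¹ • v, hVg _ v hv, ?_⟩
          change g⁻¹ * (v : G) * g⁻¹⁻¹ = x
          have e : (v : G) = g * x * g⁻¹ := hvx
          rw [e]; group
    obtain ⟨v, hv, hvm⟩ := h1 m.2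
    rw [← (Subtype.ext hvm : v = m)]
    exact hv
  · intro P hP
    obtain ⟨z, hz, hPz, hAz⟩ := h.fix _ (KL.Plug.minPar_map h.BY hP) (map_subtype_le P)
    refine ⟨⟨z, hZU hz⟩, mem_subgroupOf.2 hz, fun p hp => ?_, KL.Plug.sub_o2 (hst _) hAz⟩
    rw [hfix]
    exact (mem_centralizer_singleton_iff.1 (hPz (mem_map_of_mem Y.subtype hp))).symm
  · obtain ⟨z, hz, hAz⟩ := h.good
    exact ⟨⟨z, hZU hz⟩, mem_subgroupOf.2 hz, KL.Plug.sub_o2 (hst _) hAz⟩
  · intro a ha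
    apply Subtype.ext
    have := h.mx.1 a (mem_subgroupOf.1 ha)
    rw [pow_two] at this
    exact this
  · by_contra hcon
    push Not at hcon
    apply h.mv
    intro a ha
    rw [mem_centralizer_iff]
    intro m hm
    exact (hfix ⟨a, h.AY ha⟩ ⟨m, hm⟩).1 (hcon _ (mem_subgroupOf.2 ha) _)
  · have e1 : cv (zl B Y) (A.subgroupOf Y : Set Y) = (centralizer (A : Set G)).subgroupOf (zl B Y) := by
      ext m
      rw [mem_subgroupOf, mem_centralizer_iff]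
      constructor
      · intro hm a ha
        exact ((hfix ⟨a, h.AY ha⟩ m).1 (hm _ (mem_subgroupOf.2 ha))).symm
      · intro hm a ha
        exact (hfix a m).2 (hm a (mem_subgroupOf.1 ha)).symm
    have e2 : fxr Y (⊤ : Subgroup (zl B Y)) = (centralizer (zl B Y : Set G)).subgroupOf Y := by
      ext g
      rw [mem_subgroupOf, mem_centralizer_iff]
      constructor
      · intro hg m hm
        exact (hfix g ⟨m, hm⟩).1 (hg _ (mem_top _))
      · intro hg m _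
        exact (hfix g m).2 (hg m m.2)
    rw [e1, e2, relIndex_subgroupOf h.AY]
    exact h.relIndex_le

end

/-- **(3) of THEOREM U.** -/
theorem false_of [Finite G] {B Y O A : Subgroup G} (ml : MLK.{u, u}) (hE : Ext.{u, u}) (h : Sig 2 B Y O A) : False := by
  let := actU (le_normalizer_zl B Y)
  exact ZPre.false_of ml hE h.zpre

end Sig

/-- **The form with two centres.** -/
structure Two (z₁ z₂ : G) (B Y O A : Subgroup G) : Prop where
  p2 : IsPGroup 2 B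
  BY : B ≤ Y
  syl : ¬ 2 ∣ B.relIndex Y
  char2 : Y ⊓ centralizer (o2 Y : Set G) ≤ o2 Y
  KY : IsKGroup Y
  OY : O ≤ Y
  UO : zl B Y ≤ O
  mx : MxIn O A
  mv : ¬ A ≤ centralizer (zl B Y : Set G)
  mem₁ : z₁ ∈ zc B
  mem₂ : z₂ ∈ zc B
  gen : zc B ≤ zc B ⊓ centralizer (Y : Set G) ⊔ closure {z₁, z₂}
  o₁ : A ≤ o2 (Y ⊓ centralizer ({z₁} : Set G))
  o₂ : A ≤ o2 (Y ⊓ centralizer ({z₂} : Set G))
  par : ∀ P : Subgroup G, IsMinPar B P → P ≤ Y → P ≤ centralizer ({z₁} : Set G) ∨ P ≤ centralizer ({z₂} : Set G)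

namespace Two

variable [Finite G] {z₁ z₂ : G} {B Y O A : Subgroup G}

theorem swap (h : Two z₁ z₂ B Y O A) : Two z₂ z₁ B Y O A :=
  { h with
    mem₁ := h.mem₂
    mem₂ := h.mem₁
    gen := by rw [Set.pair_comm]; exact h.gen
    o₁ := h.o₂
    o₂ := h.o₁
    par := fun P hP hPY => (h.par P hP hPY).symm }

theorem index_le (h : Two z₁ z₂ B Y O A) {P : Subgroup G} (hPY : P ≤ Y)
    (hP : P ≤ centralizer ({z₁} : Set G)) : (zc B ⊓ centralizer (P : Set G)).relIndex (zc B) ≤ 2 := by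
  set W := zc B ⊓ centralizer (P : Set G) with hW
  -- `Z ≤ W ∪ W z₂`
  have h0 : ∀ x ∈ zc B, x ∈ W ∨ x * z₂ ∈ W := by
    have hc : zc B ⊓ centralizer (Y : Set G) ≤ W := inf_le_inf_left _ (centralizer_le hPY)
    have hz1 : z₁ ∈ W := ⟨h.mem₁, mem_centralizer_iff.2 fun p hp => (mem_centralizer_singleton_iff.1 (hP hp))⟩
    have hz2 : z₂ * z₂ = 1 := by rw [← pow_two]; exact zc_sq B _ h.mem₂
    have hcm : ∀ x ∈ zc B, ∀ y ∈ zc B, x * y = y * x := MinSimple.VModule.zc_comm B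
    -- the set is a subgroup
    let T : Subgroup G :=
      { carrier := {x | x ∈ zc B ∧ (x ∈ W ∨ x * z₂ ∈ W)}
        one_mem' := ⟨one_mem _, Or.inl (one_mem _)⟩
        mul_mem' := by
          rintro x y ⟨hx, hx'⟩ ⟨hy, hy'⟩
          refine ⟨mul_mem hx hy, ?_⟩
          rcases hx' with hx' | hx' <;> rcases hy' with hy' | hy'
          · exact Or.inl (mul_mem hx' hy')
          · right; rw [mul_assoc]; exact mul_mem hx' hy'
          · right
            have e : x * y * z₂ = (x * z₂) * y := by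
              rw [mul_assoc, mul_assoc, hcm y hy z₂ h.mem₂]
            rw [e]; exact mul_mem hx' hy'
          · left
            have e : x * y = (x * z₂) * (y * z₂) := by
              calc x * y = x * (z₂ * z₂) * y := by rw [hz2, mul_one]
                _ = (x * z₂) * (z₂ * y) := by group
                _ = (x * z₂) * (y * z₂) := by rw [hcm z₂ h.mem₂ y hy]
            rw [e]; exact mul_mem hx' hy'
        inv_mem' := by
          rintro x ⟨hx, hx'⟩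
          have e : x⁻¹ = x := inv_eq_of_mul_eq_one_left (by rw [← pow_two]; exact zc_sq B _ hx)
          rw [e]
          exact ⟨hx, hx'⟩ }
    have hT : zc B ≤ T := by
      refine h.gen.trans (sup_le (fun x hx => ⟨hx.1, Or.inl (hc hx)⟩) ?_)
      rw [closure_le]
      rintro x (rfl | rfl)
      · exact ⟨h.mem₁, Or.inl hz1⟩
      · exact ⟨h.mem₂, Or.inr (by rw [hz2]; exact one_mem _)⟩
    exact fun x hx => (hT hx).2
  by_contra hcon
  push Not at hcon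
  by_cases h1 : z₂ ∈ W
  · have h2 : zc B ≤ W := fun x hx => by
      rcases h0 x hx with h3 | h3
      · exact h3
      · exact (mul_mem_cancel_right h1).1 h3
    rw [relIndex_eq_one.2 h2] at hcon
    omega
  · have h2 : (W.subgroupOf (zc B)).index = 2 := by
      rw [index_eq_two_iff]
      refine ⟨⟨z₂, h.mem₂⟩, fun b => ?_⟩
      rw [mem_subgroupOf, mem_subgroupOf]
      change Xor (((b : G) * z₂) ∈ W) ((b : G) ∈ W)
      rcases h0 b b.2 with h3 | h3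
      · exact Or.inr ⟨h3, fun h4 => h1 ((mul_mem_cancel_left h3).1 h4)⟩
      · refine Or.inl ⟨h3, fun h4 => h1 ((mul_mem_cancel_left h4).1 h3)⟩
    rw [relIndex, h2] at hcon
    omega

theorem sig (h : Two z₁ z₂ B Y O A) : Sig 2 B Y O A :=
  { h with
    par := fun P hP hPY => by
      rcases h.par P hP hPY with h1 | h1
      · exact h.index_le hPY h1
      · exact h.swap.index_le hPY h1
    fix := fun P hP hPY => by
      rcases h.par P hP hPY with h1 | h1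
      · exact ⟨z₁, h.mem₁, h1, h.o₁⟩
      · exact ⟨z₂, h.mem₂, h1, h.o₂⟩
    good := ⟨z₁, h.mem₁, h.o₁⟩ }

/-- **(3) of THEOREM U, two centres.** -/
theorem false_of (ml : MLK.{u, u}) (hE : Ext.{u, u}) (h : Two z₁ z₂ B Y O A) : False := h.sig.false_of ml hE

end Two

end Cfsg.Agent.Omega.EDel.USig

end

end
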