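import Cfsg.Agent.Mrg.Omega.OM.SwapL.Main
import Cfsg.Agent.Mrg.Omega.OM.SwapL.PlugZ
import Cfsg.Agent.Mrg.Omega.EDel.GenS
import Cfsg.Agent.Mrg.Omega.EDel.NoOf
import Cfsg.Agent.Mrg.Omega.Node.MulG
import Cfsg.Agent.Mrg.Omega.OM.Lev.SFr
import Cfsg.Agent.Mrg.Omega.Node.SymG
import Cfsg.Agent.Mrg.Omega.EK3.Rank
import Cfsg.Agent.Mrg.Omega.NO3S.EThree.Frame
import Cfsg.Agent.Omega.NoFF.Basic

-- merged: Cfsg.Agent.Mrg.Omega.OM.SwapL.MainZ
section

section


/-!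
# THEOREM SW: (Om) is impossible for `q = 2`, no hypothesis

* `noOm_two` : `K0` normalises no nontrivial 2-subgroup, over the ground frame `Ln S P n L W Z C A 2` (natural and
  symmetric types);
* `nloc_two` : natural type;
* `omLevZ_two` : the socket `MultiOf.OmLev K (fun _ q => q = 2)`; `omOfZ_two` : `MultiOf.OmOf K (fun _ q => q = 2)`.
-/

set_option autoImplicit false

namespace Cfsg.Agent.Omega.OM.SwapL

open Subgroup Cfsg Cfsg.Agent.ZN.ChoiceBase Cfsg.Agent.ZN.ChoiceSit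
open Cfsg.Agent.ZN (jj zj bau zc zl o2)
open Cfsg.Agent.Omega.NO3S (HypN HypL)
open Cfsg.Agent.Omega.NO3S.Level (lev)
open Cfsg.Agent.Omega.FFThm (NatK NatKM)
open Cfsg.Agent.Omega.FrameFF (cv)
open Cfsg.Agent.Omega.Frame (Cls)
open Cfsg.Agent.Omega.OM.LevD (Fam K0)
open Cfsg.Agent.Omega.OM.LevB (FBlk)
open Cfsg.Agent.Omega.Node.MultiOf (FBl KZ NLoc OmLev OmNeg OmOf)

universe u

/-- **(Om) is impossible for `q = 2` at stage `n`**, over the ground frame. -/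
theorem noOm_two {G : Type u} [Group G] [Finite G] {ι : Type} [Finite ι] {S : Sylow 2 G} {P : Subgroup G} {n : ℕ}
    {L W Z C A : ι → Subgroup G} (h : Ln S P n L W Z C A 2) (hn1 : ¬ lev (S : Subgroup G) (n + 1) ≤ o2 P)
    (hF : Fam (BL (S : Subgroup G) n) (ZL (S : Subgroup G) n) (FBlk (BL (S : Subgroup G) n)))
    (hLM : ∀ i, L i ≤ K0 (ZL (S : Subgroup G) n) (FBlk (BL (S : Subgroup G) n))) :
    ∀ R : Subgroup G, IsPGroup 2 R →
      K0 (ZL (S : Subgroup G) n) (FBlk (BL (S : Subgroup G) n)) ≤ normalizer (R : Set G) → R = ⊥ := by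
  obtain ⟨c, hc, hcf⟩ := exists_full h
  exact noOmZ sitFFalse h hn1 hF hLM hc hcf (Lev.Low.lowZ h hc hcf)

/-- **(Om) is impossible for `q = 2`, at stage `n`.** -/
theorem nloc_two {G : Type u} [Group G] [Finite G]
    {S : Sylow 2 G} {P : Subgroup G} {k : ℕ} (h : HypL S P) {n : ℕ}
    (hall : ∀ R, MinPar.IsParS (S : Subgroup G) R → lev (S : Subgroup G) n ≤ o2 R)
    (hn1 : ¬ lev (S : Subgroup G) (n + 1) ≤ o2 P) (hk : 2 ≤ k)
    {F : Type} [Field F] [Finite F] [CharP F 2] (hF : Nat.card F = 2)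
    (N : NatKM F (S : Subgroup G) P (zl (S : Subgroup G) P) (cv (S : Subgroup G) P) k) :
    NLoc (KZ (BL (S : Subgroup G) n) (ZL (S : Subgroup G) n)) := by
  obtain ⟨M, L, Z, A, -, hFr, hBg, -⟩ := Lev.Main.bg_lev h.toHypN (hall P h.star) hn1 hk N
    (B := BL (S : Subgroup G) n) rfl
  rw [hF] at hFr hBg
  have hm : Node.MultiOf.Mul S P (lev (S : Subgroup G) (n + 1)) (BL (S : Subgroup G) n) (ZL (S : Subgroup G) n)
      L _ Z _ 2 :=
    ⟨h, Node.MultiOf.StgP.lev n hall (hall P h.star) hn1, hBg, F, inferInstance, inferInstance, inferInstance, hF,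
      ⟨N⟩⟩
  have hln : Ln S P n L _ Z _ A 2 := ⟨h.toHypN, hall P h.star, hFr, hBg.two⟩
  have hfam : Fam (BL (S : Subgroup G) n) (ZL (S : Subgroup G) n) (FBlk (BL (S : Subgroup G) n)) := by
    have e : FBlk (BL (S : Subgroup G) n) = FBl (BL (S : Subgroup G) n) := by
      funext L V
      exact propext ⟨fun h => ⟨h.fb, h.blk⟩, fun h => ⟨h.fb, h.blk⟩⟩
    rw [e]
    exact hm.fam
  have h1 := noOm_two hln hn1 hfam (fun i => by rw [K0_eq]; exact hm.L_le i)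
  rw [K0_eq] at h1
  exact h1

/-- **(Om), stage `n`, `q = 2`.** -/
theorem omLevZ_two {K : Cls.{u}} : OmLev K fun _ q => q = 2 := by
  intro G _ _ hK S P k h n hall hn1 hk F _ _ _ hF N B ZJ hZJ hB ho
  subst hZJ hB
  exact absurd (nloc_two h hall hn1 hk hF N _ (isPGroup_o2 _) (le_normalizer_o2 _)) ho

/-- **(Om), `q = 2`.** -/
theorem omOfZ_two {K : Cls.{u}} : OmOf K fun _ q => q = 2 :=
  Node.MultiOf.omOf_of omNeg_two omLevZ_two

end Cfsg.Agent.Omega.OM.SwapL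

end

section


/-!
# NO-3S, (Om), symmetric types: no hypothesis

* `noOm_lev` : (Om) is impossible at stage `n` over the ground frame;
* `omLevS_two : OmLevS K c`, `omS_two : OmS K c`.
-/

set_option autoImplicit false

namespace Cfsg.Agent.Omega.Node.OmLevZ

open Subgroup Cfsg Cfsg.Agent.ZN.ChoiceBase Cfsg.Agent.ZN.ChoiceSit
open Cfsg.Agent.ZN (jj zj bau zc zl o2)
open Cfsg.Agent.Omega.FFThm (SymKM)
open Cfsg.Agent.Omega.FrameFF (cv)
open Cfsg.Agent.Omega.NO3S (HypL HypN HypJ Hyp PSS)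
open Cfsg.Agent.Omega.NO3S.Level (lev lev_isLev)
open Cfsg.Agent.Omega.Frame (Cls)
open Cfsg.Agent.Omega.OM
open Cfsg.Agent.Omega.OM.LevD (Fam)
open Cfsg.Agent.Omega.OM.LevB (FBlk)
open Cfsg.Agent.Omega.OM.SwapL (BL ZL Ln K0_eq)
open Cfsg.Agent.Omega.Node.MultiOf Cfsg.Agent.Omega.Node.SymOf

universe u

/-- **(Om) is impossible at stage `n`, `q = 2`**, frame level. -/
theorem noOm_lev {G : Type u} [Group G] [Finite G] {S : Sylow 2 G} {P : Subgroup G} {n : ℕ} {ι : Type} [Finite ι]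
    {L W Z C A : ι → Subgroup G} (h : Ln S P n L W Z C A 2) (hn1 : ¬ lev (S : Subgroup G) (n + 1) ≤ o2 P)
    (hF : Fam (BL (S : Subgroup G) n) (ZL (S : Subgroup G) n) (FBl (BL (S : Subgroup G) n)))
    (hL : ∀ i, FBl (BL (S : Subgroup G) n) (L i) (W i)) :
    NLoc (KZ (BL (S : Subgroup G) n) (ZL (S : Subgroup G) n)) := by
  have hfam : Fam (BL (S : Subgroup G) n) (ZL (S : Subgroup G) n) (FBlk (BL (S : Subgroup G) n)) := by
    rw [OmLevOf.fblk_eq]
    exact hF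
  have h1 := SwapL.noOm_two h hn1 hfam (fun i => by rw [K0_eq]; exact LevD.blk_le_K0 (hL i))
  rw [K0_eq] at h1
  exact h1

variable {K : Cls.{u}}

/-- **(Om), stage `n`, symmetric types.** -/
theorem omLevS_two {c : ℕ → ℕ → Prop} : OmLevS K c := by
  intro G _ _ _ S P k m h n hall hn1 hk hm _ N B ZJ eZ eB ho
  subst eZ
  subst eB
  obtain ⟨ι, hι, W, d, t, r, L, A, -, -, -, -, h2, hFr⟩ := Lev.Sym.exists_sym_lev FF.Glob.ffthmM
      h.toHyp.ctx.char2 h.star (lev_isLev (S : Subgroup G) n) (hall P h.star) h.toHyp.inf_eq_bot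
      (NO3S.exists_BO h.toHyp.ctx.char2 h.star (hall P h.star) hn1) hk hm N
  have hM : MulS S P _ _ _ L W _ _ k m :=
    ⟨h, StgP.lev n hall (hall P h.star) hn1, ⟨N⟩, Lev.Main.toFg hFr, hι, h2⟩
  have hln : Ln S P n L W _ _ A 2 := ⟨h.toHypN, hall P h.star, hFr, h2⟩
  exact absurd (noOm_lev hln hn1 hM.fam hM.fbl _ (isPGroup_o2 _) (le_normalizer_o2 _)) ho

/-- **(Om), symmetric types, all stages.** -/
theorem omS_two {c : ℕ → ℕ → Prop} : OmS K c := omS_of (OmLevOf.omNegS K c) omLevS_two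

end Cfsg.Agent.Omega.Node.OmLevZ

end

end

-- merged: Cfsg.Agent.Mrg.Omega.EDel.FinalL
section

section


/-!
# THEOREM S'' : (E) is impossible for all symmetric types with at least three light pairs, over `HypL`

`#23621` (helper787), `#23971` (helper497), `#24003` (helper164), `#23983` (helper11), `#23986` (helper7), `#24014` (helper647).

* `Prs.three` : at least three light pairs if `k ≥ 2` or `m ≥ 3`;
* `noE_L` : `HypF`, a stage of `HypL`: `¬ NLoc (KZ B ZJ)`;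
* `eS_three` : `ES K (2 ≤ k ∨ 3 ≤ m)`; `eSH_three` : `ESH K HypLP (2 ≤ k ∨ 3 ≤ m)`.
-/

set_option autoImplicit false
set_option linter.unusedSectionVars false

namespace Cfsg.Agent.Omega.EDel.FinalL

open Subgroup Cfsg Cfsg.Agent.ZN.ChoiceBase
open Cfsg.Agent.ZN (jj zj bau zc zl o2)
open Cfsg.Agent.Omega.FFThm (ActsSym SymK SymKM)
open Cfsg.Agent.Omega.FrameFF (cv)
open Cfsg.Agent.Omega.SQ1.FFSym (u)
open Cfsg.Agent.Omega.ESym (Prs prs_lev)
open Cfsg.Agent.Omega.ESym.Light (LF exists_light)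
open Cfsg.Agent.Omega.ESOne
open Cfsg.Agent.Omega.NO3S (HypF HypL)
open Cfsg.Agent.Omega.Frame (Cls)
open Cfsg.Agent.Omega.Node.MultiOf
open Cfsg.Agent.Omega.Node.SymOf (MulS ES)
open Cfsg.Agent.Omega.Node.SymG (MulSG ESH)
open Cfsg.Agent.Omega.OM.LevD (LB)

universe v

section prs

variable {G : Type v} [Group G] {k n : ℕ} {S H V : Subgroup G} {o : Fin n} {e : G → Fin k → Fin n → ZMod 2}
  {ι : Type} {J : ι → Fin k} {X Y : ι → Fin n}

/-- **at least three light pairs** -/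
theorem prs_three (h : Prs S H V o e J X Y) (hn : 4 ≤ n) (hkn : 2 ≤ k ∨ 6 ≤ n) (i j : ι) :
    ∃ l, l ≠ i ∧ l ≠ j := by
  classical
  by_cases hJ : J i = J j
  · rcases hkn with hk | hn6
    · have : Nontrivial (Fin k) := Fin.nontrivial_iff_two_le.2 hk
      obtain ⟨j', hj'⟩ := exists_ne (J i)
      have : Nontrivial (Fin n) := Fin.nontrivial_iff_two_le.2 (by omega)
      obtain ⟨x, hx⟩ := exists_ne o
      obtain ⟨l, hl, -⟩ := h.cov j' x hx
      refine ⟨l, ?_, ?_⟩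
      · rintro rfl; exact hj' hl.symm
      · rintro rfl; exact hj' (hl.symm.trans hJ.symm)
    · have h1 : ∃ x : Fin n, x ∉ ({o, X i, Y i, X j, Y j} : Finset (Fin n)) := by
        by_contra hcon
        push Not at hcon
        have h2 : (Finset.univ : Finset (Fin n)) ⊆ {o, X i, Y i, X j, Y j} := fun x _ => hcon x
        have h3 := Finset.card_le_card h2
        rw [Finset.card_univ, Fintype.card_fin] at h3
        have h4 := h3.trans (Finset.card_le_five (a := o) (b := X i) (c := Y i) (d := X j) (e := Y j))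
        omega
      obtain ⟨x, hx⟩ := h1
      simp only [Finset.mem_insert, Finset.mem_singleton, not_or] at hx
      obtain ⟨l, -, hl⟩ := h.cov (J i) x hx.1
      refine ⟨l, ?_, ?_⟩
      · rintro rfl
        rcases hl with h5 | h5
        · exact hx.2.1 h5.symm
        · exact hx.2.2.1 h5.symm
      · rintro rfl
        rcases hl with h5 | h5
        · exact hx.2.2.2.1 h5.symm
        · exact hx.2.2.2.2 h5.symm
  · obtain ⟨l, hl, hJl⟩ := h.brother hn i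
    exact ⟨l, hl, fun e => hJ (by rw [← e]; exact hJl.symm)⟩

end prs

section main

variable {G : Type v} [Group G] [Finite G] {S : Sylow 2 G} {P K B ZJ : Subgroup G} {k m : ℕ}
  {N : SymKM (S : Subgroup G) P (zl (S : Subgroup G) P) (cv (S : Subgroup G) P) k m}

omit [Finite G] in
theorem mem_zpowers_sq {x d : G} (hd : d ^ 2 = 1) : x ∈ zpowers d ↔ x = 1 ∨ x = d := by
  constructor
  · intro hx
    obtain ⟨n, rfl⟩ := mem_zpowers_iff.1 hx
    have h2 : d ^ (2 : ℤ) = 1 := by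
      have : d ^ ((2 : ℕ) : ℤ) = 1 := by rw [zpow_natCast]; exact hd
      exact this
    rcases Int.even_or_odd' n with ⟨c, h | h⟩
    · left
      rw [h, zpow_mul, h2, one_zpow]
    · right
      rw [h, zpow_add, zpow_mul, h2, one_zpow, one_mul, zpow_one]
  · rintro (rfl | rfl)
    · exact one_mem _
    · exact mem_zpowers x

/-- **the small frame `Sk0` from the light frame `LF`** -/
theorem sk0 (F : LF S P B ZJ N) (hG : IsCharacteristicTwoType G) (lb : LB S K B ZJ) :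
    Sk0 S K B ZJ (o2 P) (zl (S : Subgroup G) P) F.L (fun i => F.sy.NN (F.J i) 0 (F.X i) (F.X' i))
      (fun i => zpowers (u P (zl (S : Subgroup G) P) ⊥ N.e (F.J i) (F.X i) (F.X' i)))
      (OM.FrSym.CC fun i => F.sy.NN (F.J i) 0 (F.X i) (F.X' i))
      (fun i => u P (zl (S : Subgroup G) P) ⊥ N.e (F.J i) (F.X i) (F.X' i)) where
  char2 := hG
  lb := lb
  fr := OM.Lev.Main.toFg F.frl
  hz := fun i _ => mem_zpowers_sq ((OM.Lev.Main.toFg F.frl).Vsq ((OM.Lev.Main.toFg F.frl).ZV i (mem_zpowers _)))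
  uni := F.uni

/-- **THEOREM S''**, light frame -/
theorem false_of_LF (hML : ML.Final.MLK.{v, v}) (h : HypF S P) (F : LF S P B ZJ N) (lb : LB S K B ZJ)
    (hm : 2 ≤ m) (hk : 0 < k) (hkm : 2 ≤ k ∨ 3 ≤ m) (hN : NLoc (KZ B ZJ)) : False := by
  have hG := h.ctx.char2
  have hfin : Finite F.ι := F.fi
  have h4 : 2 ^ 2 ≤ 2 ^ m := Nat.pow_le_pow_right (by norm_num) hm
  have hP := prs_lev F.sy F.ch
  have hs := sk0 F hG lb
  have hkn : 2 ≤ k ∨ 6 ≤ 2 ^ m + 1 := by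
    rcases hkm with h1 | h1
    · exact Or.inl h1
    · right
      have : 2 ^ 3 ≤ 2 ^ m := Nat.pow_le_pow_right (by norm_num) h1
      omega
  have three := prs_three hP (by omega) hkn
  have hne : Nonempty F.ι := by
    have : Nontrivial (Fin (2 ^ m + 1)) := Fin.nontrivial_iff_two_le.2 (by omega)
    obtain ⟨x, hx⟩ := exists_ne (0 : Fin (2 ^ m + 1))
    obtain ⟨l, -, -⟩ := hP.cov ⟨0, hk⟩ x hx
    exact ⟨l⟩
  have hzf := Zf.of_lb hG lb F.frl hs.hz F.uni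
  have hju : ∀ j : F.ι, ({j} : Set F.ι) ≠ Set.univ := by
    intro j e
    obtain ⟨l, hl, -⟩ := three j j
    exact hl (Set.mem_singleton_iff.1 (e ▸ Set.mem_univ l))
  have hn : ∀ U : Subgroup G, U ≤ ZJ → U.Normal → U = ⊥ := by
    intro U hU hUn
    have : IsSimpleGroup G := h.ctx.simple
    rcases hUn.eq_bot_or_eq_top with h1 | h1
    · exact h1
    · exfalso
      apply h.ctx.nonComm
      have h2 : ∀ x : G, x ∈ zl (S : Subgroup G) P := fun x => hs.fr.ZJV (hU (h1 ▸ mem_top x))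
      exact ⟨⟨fun x y => hs.fr.Vc (h2 x) (h2 y)⟩⟩
  refine hs.false_of hN three (fun i => ?_) (fun j K' h1 h2 h3 => hs.gen j (hju j) K' h1 h2 h3)
    (fun i j => ?_) (fun i j hij => ?_)
  · obtain ⟨l, hl, -⟩ := three i i
    exact hzf.no' hML h.ctx.kproper hn (D_le_Y i) (hs.Y_le_CT (by simp)) ⟨l, hl⟩
  · obtain ⟨g, -, ρ, h1, h2⟩ := hP.trans i j
    exact ⟨g, ρ, h2, h1⟩
  · rcases hP.sw (by omega) hij with ⟨g, -, ρ, h1, h2, h3⟩ | ⟨g, -, ρ, h1, h2, h3⟩
    · exact ⟨g, ρ, h3, Or.inl ⟨h1, h2⟩⟩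
    · exact ⟨g, ρ, h3, Or.inr ⟨h1, h2⟩⟩

/-- **(E) is impossible**, stages of `HypL` -/
theorem noE_L (hML : ML.Final.MLK.{v, v}) (h : HypF S P) (st : StgP S P K B ZJ) (hk : 0 < k) (hm : 2 ≤ m)
    (hkm : 2 ≤ k ∨ 3 ≤ m)
    (N : SymKM (S : Subgroup G) P (zl (S : Subgroup G) P) (cv (S : Subgroup G) P) k m) : ¬ NLoc (KZ B ZJ) := by
  intro hN
  obtain ⟨F⟩ := exists_light h.toHypN st hk hm N
  exact false_of_LF hML h F st.lb hm hk hkm hN

end main

/-- **`ES K`, at least three light pairs** (in particular `SymBigL`, `SymManyL`) -/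
theorem eS_three (hML : ML.Final.MLK.{v, v}) (K : Cls.{v}) :
    ES K fun k m => 2 ≤ k ∨ 3 ≤ m := by
  intro G _ _ _ S P K' B ZJ ι L W Z C k m hk hm hkm hM hN
  obtain ⟨N⟩ := hM.sym
  exact absurd hN (noE_L hML hM.hyp.toHypF hM.stg hk hm hkm N)

end Cfsg.Agent.Omega.EDel.FinalL

end

section


/-!
# THEOREM S'': the fields `two`, `OY`, `OZ`, `DY`, `NE`, `YN`, `YQ` of `ESym.CoreS.Core` from the frame `Fg`

`D = C_G(ZJ)`, `O = O₂(D)`, `Y i = ⟨D, L i⟩`, `N i = ⟨Z_i^(Y i)⟩`; frame `Fg B Q V ZJ L W Z C q` (any `q`, any index type).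

* `YL`, `NL` : `Y i`, `N i`; `NL_eq_V` : `N i = NoFF.Basic.V (Z i) (Y i)`;
* `stab` : `C_{Y i}(Z i) ≤ D`; `cent_of_norm` : `Y i` centralises `Z l` for `l ≠ i`;
* `two_`, `OY_`, `OZ_`, `DY_`, `NE_`, `YN_`, `YQ_` : the fields; `inf_eq_o2` : `O ⊓ C(N i) = O₂(C_{Y i}(N i))`;
* `YQ_of` : the abstract form.
-/

set_option autoImplicit false
set_option linter.unusedSectionVars false

namespace Cfsg.Agent.Omega.EDel.Flds

open Subgroup Cfsg Cfsg.Agent.ZN.ChoiceBase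
open Cfsg.Agent.ZN (zc zl o2)
open Cfsg.Agent.ZN.ChoiceSit (Syl)
open Cfsg.Agent.Omega.NO3S.EThree.Frame (Fg)
open Cfsg.Agent.Omega.EK3.StarE (EE cj_le_EE EE_le EE_mono le_EE norm_EE)
open Cfsg.Agent.Omega.ESym.CoreS (EI)
open Cfsg.Agent.MinSimple.VModule (le_normalizer_o2 o2_isPGroup le_o2 o2_le)

universe u

variable {G : Type u} [Group G] {ι : Type*}

/-- `Y i = ⟨C_G(ZJ), L i⟩` -/
def YL (ZJ : Subgroup G) (L : ι → Subgroup G) (i : ι) : Subgroup G := centralizer (ZJ : Set G) ⊔ L i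

/-- `N i = ⟨Z_i^(Y i)⟩` -/
def NL (ZJ : Subgroup G) (L Z : ι → Subgroup G) (i : ι) : Subgroup G := ⨆ y : YL ZJ L i, cj (y : G) (Z i)

theorem NL_eq_EE (ZJ : Subgroup G) (L Z : ι → Subgroup G) (i : ι) : NL ZJ L Z i = EE (Z i) (YL ZJ L i) := rfl

theorem NL_eq_V (ZJ : Subgroup G) (L Z : ι → Subgroup G) (i : ι) :
    NL ZJ L Z i = NoFF.Basic.V (Z i) (YL ZJ L i) :=
  le_antisymm (EE_le fun _ hy => NoFF.Basic.Z_le_V hy) (NoFF.Basic.V_le fun _ hy => cj_le_EE hy)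

theorem Z_le_NL (ZJ : Subgroup G) (L Z : ι → Subgroup G) (i : ι) : Z i ≤ NL ZJ L Z i := le_EE _ _

theorem DY_ (ZJ : Subgroup G) (L : ι → Subgroup G) (i : ι) : centralizer (ZJ : Set G) ≤ YL ZJ L i := le_sup_left

theorem L_le_YL (ZJ : Subgroup G) (L : ι → Subgroup G) (i : ι) : L i ≤ YL ZJ L i := le_sup_right

theorem YN_ (ZJ : Subgroup G) (L Z : ι → Subgroup G) (i : ι) :
    YL ZJ L i ≤ normalizer (NL ZJ L Z i : Set G) := norm_EE _ _

theorem D_norm (ZJ : Subgroup G) (L Z : ι → Subgroup G) (i : ι) :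
    centralizer (ZJ : Set G) ≤ normalizer (NL ZJ L Z i : Set G) := (DY_ ZJ L i).trans (YN_ ZJ L Z i)

theorem EI_single (ZJ : Subgroup G) (Y : ι → Subgroup G) (i : ι) : EE ZJ (Y i) ≤ EI ZJ Y {i} :=
  EE_mono (le_iSup (fun l : ({i} : Set ι) => Y l) ⟨i, rfl⟩)

theorem EI_eq_EE (ZJ : Subgroup G) (Y : ι → Subgroup G) (I : Set ι) : EI ZJ Y I = EE ZJ (⨆ i : I, Y i) := rfl

section fin

variable [Finite G]

theorem two_ (ZJ : Subgroup G) : IsPGroup 2 (o2 (centralizer (ZJ : Set G))) := o2_isPGroup _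

theorem OD_ (ZJ : Subgroup G) : o2 (centralizer (ZJ : Set G)) ≤ centralizer (ZJ : Set G) := o2_le _

theorem OZ_ (ZJ : Subgroup G) : o2 (centralizer (ZJ : Set G)) ≤ centralizer (ZJ : Set G) := o2_le _

theorem OY_ (ZJ : Subgroup G) (L : ι → Subgroup G) (i : ι) : o2 (centralizer (ZJ : Set G)) ≤ YL ZJ L i :=
  (OD_ ZJ).trans (DY_ ZJ L i)

/-- an element normalising `X` normalises `O₂(X)` -/
theorem cj_o2_of {X : Subgroup G} {y : G} (hy : cj y X = X) : cj y (o2 X) = o2 X := by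
  refine Subgroup.eq_of_le_of_card_ge (le_o2 ?_ ((o2_isPGroup X).map _) ?_) (card_cj _ _).ge
  · have := cj_mono y (o2_le X)
    rwa [hy] at this
  · have := cj_mono y (le_normalizer_o2 X)
    rwa [cj_normalizer, hy] at this

/-- `C_{Y}(N) ≤ D`: `O₂(D) ⊓ C(N) = O₂(C_Y(N))`. -/
theorem inf_eq_of {D Y N : Subgroup G} (hDY : D ≤ Y) (hYN : Y ≤ normalizer (N : Set G))
    (hst : Y ⊓ centralizer (N : Set G) ≤ D) :
    o2 D ⊓ centralizer (N : Set G) = o2 (Y ⊓ centralizer (N : Set G)) := by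
  have hYC : Y ≤ normalizer ((Y ⊓ centralizer (N : Set G) : Subgroup G) : Set G) := by
    intro y hy
    rw [mem_normalizer_iff_cj, cj_inf, cj_centralizer, cj_eq_of_mem_normalizer (hYN hy),
      cj_eq_of_mem_normalizer (Subgroup.le_normalizer hy)]
  apply le_antisymm
  · refine le_o2 ?_ ((o2_isPGroup D).to_le inf_le_left) ?_
    · exact inf_le_inf_right _ ((o2_le D).trans hDY)
    · intro c hc
      rw [mem_normalizer_iff_cj, cj_inf, cj_centralizer, cj_eq_of_mem_normalizer (hYN hc.1),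
        cj_eq_of_mem_normalizer (le_normalizer_o2 D (hst hc))]
  · refine le_inf (le_o2 ((o2_le _).trans hst) (o2_isPGroup _) ?_) ((o2_le _).trans inf_le_right)
    intro d hd
    have h1 := hYC (hDY hd)
    rw [mem_normalizer_iff_cj] at h1 ⊢
    exact cj_o2_of h1

/-- `C_Y(N) ≤ D ≤ Y`, `N` normal in `Y`: `O₂(D) ⊓ C(N)` is normal in `Y`. -/
theorem YQ_of {D Y N : Subgroup G} (hDY : D ≤ Y) (hYN : Y ≤ normalizer (N : Set G))
    (hst : Y ⊓ centralizer (N : Set G) ≤ D) :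
    Y ≤ normalizer ((o2 D ⊓ centralizer (N : Set G) : Subgroup G) : Set G) := by
  rw [inf_eq_of hDY hYN hst]
  intro y hy
  have h1 : cj y (Y ⊓ centralizer (N : Set G)) = Y ⊓ centralizer (N : Set G) := by
    rw [cj_inf, cj_centralizer, cj_eq_of_mem_normalizer (hYN hy), cj_eq_of_mem_normalizer (Subgroup.le_normalizer hy)]
  rw [mem_normalizer_iff_cj, cj_o2_of h1]

end fin

section frame

variable {B Q V ZJ : Subgroup G} {L W Z C : ι → Subgroup G} {q : ℕ} (h : Fg B Q V ZJ L W Z C q)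
include h

/-- `Y i` centralises `ZJ ⊓ C i` -/
theorem YL_cent (i : ι) : YL ZJ L i ≤ centralizer ((ZJ ⊓ C i : Subgroup G) : Set G) := by
  refine sup_le (centralizer_le inf_le_left) fun l hl => ?_
  rw [mem_centralizer_iff]
  rintro z ⟨hz, hzC⟩
  exact (h.LC i l hl z hz hzC).symm

/-- `Y i` centralises `Z l` for `l ≠ i` -/
theorem YL_cent_Z {i l : ι} (hil : i ≠ l) : YL ZJ L i ≤ centralizer (Z l : Set G) :=
  (YL_cent h i).trans (centralizer_le (le_inf (h.Z_le l) ((h.blk l).ZV.trans (h.WjC i l hil))))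

/-- **`C_{Y i}(Z i) ≤ C_G(ZJ)`** -/
theorem stab (i : ι) : YL ZJ L i ⊓ centralizer (Z i : Set G) ≤ centralizer (ZJ : Set G) := by
  rintro x ⟨h1, h2⟩
  rw [mem_centralizer_iff]
  intro z hz
  obtain ⟨w, hw, c, hc, hcJ, rfl⟩ := h.split_ZJ i hz
  have e1 := mem_centralizer_iff.1 h2 w hw
  have e2 := mem_centralizer_iff.1 (YL_cent h i h1) c ⟨hcJ, hc⟩
  calc w * c * x = w * (c * x) := mul_assoc _ _ _
    _ = w * x * c := by rw [e2, ← mul_assoc]
    _ = x * (w * c) := by rw [e1, mul_assoc]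

theorem cent_NL (i : ι) : YL ZJ L i ⊓ centralizer (NL ZJ L Z i : Set G) ≤ centralizer (ZJ : Set G) :=
  (inf_le_inf_left _ (centralizer_le (Z_le_NL ZJ L Z i))).trans (stab h i)

/-- `N i ≤ ⟨ZJ^(Y i)⟩` -/
theorem NE_ (i : ι) : NL ZJ L Z i ≤ EI ZJ (YL ZJ L) {i} := by
  refine le_trans ?_ (EI_single ZJ (YL ZJ L) i)
  exact EE_le fun y hy => (cj_mono y (h.Z_le i)).trans (cj_le_EE hy)

theorem inf_eq_o2 [Finite G] (i : ι) : o2 (centralizer (ZJ : Set G)) ⊓ centralizer (NL ZJ L Z i : Set G) =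
    o2 (YL ZJ L i ⊓ centralizer (NL ZJ L Z i : Set G)) :=
  inf_eq_of (DY_ ZJ L i) (YN_ ZJ L Z i) (cent_NL h i)

theorem YQ_ [Finite G] (i : ι) : YL ZJ L i ≤
    normalizer ((o2 (centralizer (ZJ : Set G)) ⊓ centralizer (NL ZJ L Z i : Set G) : Subgroup G) : Set G) :=
  YQ_of (DY_ ZJ L i) (YN_ ZJ L Z i) (cent_NL h i)

end frame

end Cfsg.Agent.Omega.EDel.Flds

end

section


/-!
# `SymBigL`, `SymManyL` (fields 7, 8 of `Node.NO3SOpen.OpenL`) from MLK

(Om): `OmLevZ.omS_two`; (E): THEOREM S'' (`FinalL.eS_three`).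
-/

set_option autoImplicit false

namespace Cfsg.Agent.Omega.EDel.PlugL

open Cfsg.Agent.Omega.Frame (Cls)
open Cfsg.Agent.Omega.Node

universe v

variable {K : Cls.{v}}

/-- **`SymBigL K`**: `V_P` = even subsets of `{1..2^m+1}`, `m ≥ 3` -/
theorem symBigL (hML : ML.Final.MLK.{v, v}) : NO3S.SymBigL K :=
  SymOf.symBigL_of OmLevZ.omS_two ((FinalL.eS_three hML K).mono fun _ _ h => Or.inr h.2)

/-- **`SymManyL K`**: `k ≥ 2` such modules, `m ≥ 2` -/
theorem symManyL (hML : ML.Final.MLK.{v, v}) : NO3S.SymManyL K :=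
  SymOf.symManyL_of OmLevZ.omS_two ((FinalL.eS_three hML K).mono fun _ _ h => Or.inl h)

end Cfsg.Agent.Omega.EDel.PlugL

end

end
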