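import Cfsg.Agent.Mrg.Omega.EDel.GenS
import Cfsg.Agent.Mrg.Omega.EDel.QP
import Cfsg.Agent.Mrg.Omega.EDel.NoOf
import Cfsg.Agent.Mrg.Omega.EK3.Rank
import Cfsg.Agent.Mrg.Omega.OM.Lev.SMin
import Cfsg.Agent.Mrg.Omega.OM.Lev.SFr
import Cfsg.Agent.Mrg.Omega.OM.FrSym
import Cfsg.Agent.Mrg.Omega.OM.Lev.Main
import Cfsg.Agent.Mrg.Omega.Node.MulG
import Cfsg.Agent.Mrg.Omega.Node.SymG

-- merged: Cfsg.Agent.Mrg.Omega.EDel.Gen
section

section


/-!
# THEOREM DELTA: `(QP)`: `⟨D, L_i⟩ = K D` if `K ⊴ ⟨D, L_i⟩` and `K ∩ O` moves `N_i` (helper557, LEMMA G'')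
-/

set_option autoImplicit false
set_option linter.unusedSectionVars false

namespace Cfsg.Agent.Omega.EDel

open Subgroup Cfsg Cfsg.Agent.ZN.ChoiceBase
open Cfsg.Agent.ZN (zc zl o2 jj)
open Cfsg.Agent.Omega.EK3 (CT mem_CT CT_mono)
open Cfsg.Agent.Omega.EK3.StarE (EE EE_le le_EE norm_EE le_norm_of_cj_le)
open Cfsg.Agent.ZN.ChoiceSit (Syl)

universe u

variable {G : Type u} [Group G] {ι : Type} {B Q V X ZJ : Subgroup G} {L W Z C A : ι → Subgroup G} {z : ι → G}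

namespace Zf

variable (h : Zf B Q V X ZJ L W Z C A z)
include h

/-- an element of `B` which moves `W i` maps `w ∈ W i - Z i` to `z i w` -/
theorem conj_of_moves {i : ι} {b : G} (hb : b ∈ B) (hbW : ¬ ∀ w ∈ W i, b * w = w * b) {w : G} (hw : w ∈ W i)
    (hwZ : w ∉ Z i) : b * w * b⁻¹ = z i * w := by
  have h1 : b * w ≠ w * b := fun e => hwZ ((h.fr.blk i).mem_Z hb hbW hw e)
  have h2 : w * b * w⁻¹ * b⁻¹ ∈ Z i :=
    (h.fr.blk i).comm_le le_rfl (Subgroup.commutator_mem_commutator hw hb)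
  rcases (h.hz i _).1 h2 with h3 | h3
  · exact absurd (by
      have h4 : w * b * w⁻¹ = b := mul_inv_eq_one.1 h3
      have h5 : w * b = b * w := mul_inv_eq_iff_eq_mul.1 h4
      exact h5.symm) h1
  · -- `w (b w⁻¹ b⁻¹) = z`
    have hsq : z i * z i = 1 := by rw [← pow_two]; exact h.ZJ_sq (h.z_mem i)
    have h4 : (w * b * w⁻¹ * b⁻¹)⁻¹ = z i := by
      rw [h3]
      exact inv_eq_of_mul_eq_one_left hsq
    have h5 : b * w * b⁻¹ = (w * b * w⁻¹ * b⁻¹)⁻¹ * w := by group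
    rw [h5, h4]

section fin

variable [Finite G] [Finite ι]

/-- `T = B ∩ K` moves `W i` if `L i` does not normalise it -/
theorem moves_W {i : ι} {K : Subgroup G} (hLK : L i ≤ normalizer (K : Set G))
    (hT : ¬ L i ≤ normalizer ((B ⊓ K : Subgroup G) : Set G)) : ∃ b ∈ B, b ∈ K ∧ ¬ ∀ w ∈ W i, b * w = w * b := by
  by_contra hcon
  push Not at hcon
  refine hT (le_norm_of_cj_le fun l hl => ?_)
  rintro _ ⟨x, hx, rfl⟩
  exact ⟨(h.fr.blk i).cor l hl x hx.1 fun v hv => hcon x hx.1 hx.2 v hv,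
    (mem_normalizer_iff.1 (hLK hl) x).1 hx.2⟩

/-- if `b ∈ B ∩ K` moves `W i`, then `L i ≤ K D` -/
theorem L_le_of_moves {i : ι} {K : Subgroup G} (hKT : K ≤ CT z ({i} : Set ι)ᶜ)
    (hLK : L i ≤ normalizer (K : Set G)) {b : G} (hb : b ∈ B) (hbK : b ∈ K) (hbW : ¬ ∀ w ∈ W i, b * w = w * b) :
    L i ≤ K ⊔ centralizer (ZJ : Set G) := by
  have hF := h.fr.blk i
  obtain ⟨k, hk, hs⟩ := hF.sup
  have h2 : ⁅W i, B⁆ ≤ Z i := hF.comm_le le_rfl
  have hs' : W i ≤ Z i ⊔ cj k (Z i) := hs.trans (sup_le (h2.trans le_sup_left) ((cj_mono k h2).trans le_sup_right))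
  have hziW : z i ∈ W i := hF.ZV (h.z_mem_Z i)
  set x₀ : G := k * z i * k⁻¹ with hx₀
  have hx₀W : x₀ ∈ W i := hF.nV k hk _ hziW
  have hne : ∀ g : G, g * z i * g⁻¹ ≠ 1 := fun g e => h.z_ne i (by simpa using e)
  have hmemcj : ∀ x, x ∈ cj k (Z i) → x = 1 ∨ x = x₀ := by
    rintro _ ⟨y, hy, rfl⟩
    rcases (h.hz i y).1 hy with rfl | rfl
    · left
      simp
    · right
      rfl
  have hx₀Z : x₀ ∉ Z i := by
    intro hx
    have h3 : cj k (Z i) ≤ Z i := fun x hx' => by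
      rcases hmemcj x hx' with rfl | rfl
      · exact one_mem _
      · exact hx
    have h4 : W i = Z i := le_antisymm (hs'.trans (sup_le le_rfl h3)) hF.ZV
    have h5 := hF.card
    rw [h4, h.fr.cardZ i] at h5
    omega
  -- the elements of `W i`
  have hWel : ∀ x ∈ W i, x = 1 ∨ x = z i ∨ x = x₀ ∨ x = z i * x₀ := by
    intro x hx
    have hn : Z i ≤ normalizer (cj k (Z i) : Set G) := by
      refine le_trans (fun a ha => ?_) (centralizer_le_normalizer _)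
      rw [mem_centralizer_iff]
      rintro c hc
      rcases hmemcj c hc with rfl | rfl
      · simp
      · exact hF.comm hx₀W (hF.ZV ha)
    obtain ⟨a, ha, c, hc, rfl⟩ := mem_sup_of_norm hn (hs' hx)
    rcases (h.hz i a).1 ha with rfl | rfl <;> rcases hmemcj c hc with rfl | rfl
    · left; simp
    · right; right; left; simp
    · right; left; simp
    · right; right; right; rfl
  -- `b₁ = k b k⁻¹ ∈ K`, `b₁ z b₁⁻¹ = x₀ z`
  have hb₁ : k * b * k⁻¹ ∈ K := (mem_normalizer_iff.1 (hLK hk) b).1 hbK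
  have hcomm : x₀ * z i = z i * x₀ := hF.comm hx₀W hziW
  have e1 : (k * b * k⁻¹) * z i * (k * b * k⁻¹)⁻¹ = z i * x₀ := by
    have hw' : k⁻¹ * z i * k ∈ W i := by
      have := hF.nV k⁻¹ (inv_mem hk) _ hziW
      rwa [inv_inv] at this
    have hw'Z : k⁻¹ * z i * k ∉ Z i := by
      intro hz'
      rcases (h.hz i _).1 hz' with h3 | h3
      · exact h.z_ne i (by
          have : k * (k⁻¹ * z i * k) * k⁻¹ = 1 := by rw [h3]; simp
          simpa [mul_assoc] using this)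
      · apply hx₀Z
        have h4 : x₀ = z i := by
          rw [hx₀]
          conv_lhs => rw [← h3]
          group
        rw [h4]
        exact h.z_mem_Z i
    have h3 := h.conj_of_moves hb hbW hw' hw'Z
    calc (k * b * k⁻¹) * z i * (k * b * k⁻¹)⁻¹ = k * (b * (k⁻¹ * z i * k) * b⁻¹) * k⁻¹ := by group
      _ = k * (z i * (k⁻¹ * z i * k)) * k⁻¹ := by rw [h3]
      _ = x₀ * z i := by rw [hx₀]; group
      _ = z i * x₀ := hcomm
  have e2 : b * x₀ * b⁻¹ = z i * x₀ := h.conj_of_moves hb hbW hx₀W hx₀Z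
  intro l hl
  -- `k' ∈ K` with `k' (l z l⁻¹) k'⁻¹ = z`
  obtain ⟨c, hc, ec⟩ : ∃ c ∈ K, c * (l * z i * l⁻¹) * c⁻¹ = z i := by
    rcases hWel _ (hF.nV l hl _ hziW) with h3 | h3 | h3 | h3
    · exact absurd h3 (hne l)
    · exact ⟨1, one_mem _, by rw [h3]; simp⟩
    · refine ⟨(k * b * k⁻¹)⁻¹ * b, mul_mem (inv_mem hb₁) hbK, ?_⟩
      rw [h3]
      calc (k * b * k⁻¹)⁻¹ * b * x₀ * ((k * b * k⁻¹)⁻¹ * b)⁻¹
          = (k * b * k⁻¹)⁻¹ * (b * x₀ * b⁻¹) * (k * b * k⁻¹) := by group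
        _ = (k * b * k⁻¹)⁻¹ * ((k * b * k⁻¹) * z i * (k * b * k⁻¹)⁻¹) * (k * b * k⁻¹) := by rw [e2, e1]
        _ = z i := by group
    · refine ⟨(k * b * k⁻¹)⁻¹, inv_mem hb₁, ?_⟩
      rw [h3, ← e1]
      group
  have hD : c * l ∈ centralizer (ZJ : Set G) := by
    refine h.mem_D fun j => ?_
    by_cases hj : j = i
    · subst hj
      have h4 : c * l * z j * (c * l)⁻¹ = z j := by
        calc c * l * z j * (c * l)⁻¹ = c * (l * z j * l⁻¹) * c⁻¹ := by group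
          _ = z j := ec
      exact mul_inv_eq_iff_eq_mul.1 h4
    · exact mem_CT.1 (mul_mem (hKT hc) (h.L_le_CT (T := ({i} : Set ι)ᶜ) (by simp) hl)) j hj
  have e : l = c⁻¹ * (c * l) := by group
  rw [e]
  exact mul_mem (mem_sup_left (inv_mem hc)) (mem_sup_right hD)

/-- **(QP)** -/
theorem gen {i : ι} (h2 : ∃ l, l ≠ i) {K : Subgroup G} (hKY : K ≤ centralizer (ZJ : Set G) ⊔ L i)
    (hYK : centralizer (ZJ : Set G) ⊔ L i ≤ normalizer (K : Set G))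
    (hm : ¬ K ⊓ o2 (centralizer (ZJ : Set G)) ≤
      centralizer (EE (zpowers (z i)) (centralizer (ZJ : Set G) ⊔ L i) : Set G)) :
    centralizer (ZJ : Set G) ⊔ L i ≤ K ⊔ centralizer (ZJ : Set G) := by
  set D : Subgroup G := centralizer (ZJ : Set G) with hD
  have hT : (({i} : Set ι)ᶜ).Nonempty := h2
  have hYT : D ⊔ L i ≤ CT z ({i} : Set ι)ᶜ := h.DL_le_CT (by simp)
  have hO : o2 D ≤ D := Cfsg.Agent.ZN.o2_le _
  have hEO : EE ZJ (D ⊔ L i) ≤ o2 D := h.E_le_O hT hYT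
  have hEeab := h.E_el hT hYT
  have hOB : o2 D ≤ B := by
    -- `O₂(D) ≤ B`
    exact h.o2_le_of le_rfl fun t ht _ => hO ht
  -- a conjugate of `ZJ` moved by `K ∩ O`
  obtain ⟨y, hy, hF⟩ : ∃ y ∈ D ⊔ L i, ¬ K ⊓ o2 D ≤ centralizer (cj y ZJ : Set G) := by
    by_contra hcon
    push Not at hcon
    refine hm (le_centralizer_iff.1 (EE_le fun y hy => ?_))
    exact (cj_mono y (zpowers_le.2 (h.z_mem i))).trans (le_centralizer_iff.1 (hcon y hy))
  have hn := QP.moves_of (B := B) (D := D) (L := L i) (W := EE ZJ (D ⊔ L i)) (K := K) (Z := ZJ)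
    ⟨h.B_le_D, h.Bp, fun R hR hR2 hBR => le_antisymm (h.syl R hR hR2 hBR) hBR⟩ le_rfl (hEO.trans hOB)
    (fun x hx y hy => SQ1.Bau.elem_comm hEeab x hx y hy)
    (fun x hx => by rw [← pow_two]; exact SQ1.Bau.elem_sq hEeab x hx) (norm_EE _ _) (le_EE _ _)
    (fun x hx => by
      rw [← h.fr.zcB]
      exact mem_zc.2 ⟨hOB (hEO hx.1), SQ1.Bau.elem_sq hEeab x hx.1, fun y hy => mem_centralizer_iff.1 hx.2 y hy⟩)
    hKY hYK inf_le_right (F := K ⊓ o2 D) (inf_le_inf_left _ hO) hy hF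
  obtain ⟨b, hb, hbK, hbW⟩ := h.moves_W (le_sup_right.trans hYK) hn
  exact sup_le le_sup_right (h.L_le_of_moves (hKY.trans hYT) (le_sup_right.trans hYK) hb hbK hbW)

end fin

end Zf

end Cfsg.Agent.Omega.EDel

end

section


/-!
# THEOREM S'' over `Zf`

`Y i = ⟨C_G(ZJ), L i⟩`, `N i = ⟨z i^(Y i)⟩`.

* `Zf.sy_of_norm`, `Zf.exists_sy` : an element which permutes the `z l` induces a symmetry (`cjY`: `N_G(B)` maps `L i` into
  `Y j` if it maps `z i` to `z j`);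
* `Zf.core` : `CoreS.Core`;
* **`Zf.false_of`** : the end: no nontrivial 2-subgroup is normalised by all `Y i`, at least three indices, `tr`, `sw`.
-/

set_option autoImplicit false
set_option linter.unusedSectionVars false

namespace Cfsg.Agent.Omega.EDel

open Subgroup Cfsg Cfsg.Agent.ZN.ChoiceBase
open Cfsg.Agent.ZN (zc zl o2 jj)
open Cfsg.Agent.Omega.EK3 (CT mem_CT CT_mono)
open Cfsg.Agent.Omega.EK3.StarE (EE EE_le EE_mono le_EE norm_EE cj_le_EE cj_iSup_le)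
open Cfsg.Agent.Omega.ESym.CoreS (EI Sy Core)
open Cfsg.Agent.ZN.ChoiceSit (Syl)

universe u

variable {G : Type u} [Group G] {ι : Type} {B Q V X ZJ : Subgroup G} {L W Z C A : ι → Subgroup G} {z : ι → G}

/-- `Y i = ⟨C_G(ZJ), L i⟩` -/
def YL (ZJ : Subgroup G) (L : ι → Subgroup G) (i : ι) : Subgroup G := centralizer (ZJ : Set G) ⊔ L i

/-- `N i = ⟨z i^(Y i)⟩` -/
def NL (ZJ : Subgroup G) (L : ι → Subgroup G) (z : ι → G) (i : ι) : Subgroup G := EE (zpowers (z i)) (YL ZJ L i)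

theorem D_le_YL (i : ι) : centralizer (ZJ : Set G) ≤ YL ZJ L i := le_sup_left

/-- Frattini: `B` Sylow in `D`, `D` normalised by `g`. -/
theorem exists_norm_mul [Finite G] {B D : Subgroup G} (hB : Syl B D) {g : G} (hg : g ∈ normalizer (D : Set G)) :
    ∃ c ∈ D, c * g ∈ normalizer (B : Set G) := by
  have e := cj_eq_of_mem_normalizer hg
  have h1 : Syl (cj g B) D := by
    refine ⟨e ▸ cj_mono g hB.1, isPGroup_cj g hB.2.1, fun Q hQ hQ2 hle => ?_⟩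
    have h2 : cj g⁻¹ Q ≤ D := by
      have := cj_mono g⁻¹ hQ
      rwa [cj_eq_of_mem_normalizer (inv_mem hg)] at this
    have h3 : B ≤ cj g⁻¹ Q := by
      have := cj_mono g⁻¹ hle
      rwa [cj_inv_cj] at this
    have h4 := hB.2.2 _ h2 (isPGroup_cj _ hQ2) h3
    rw [← h4, cj_cj_inv]
  obtain ⟨c, hc, hcB⟩ := ZN.ChoiceSit.syl_conj h1 hB
  refine ⟨c, hc, ?_⟩
  rw [mem_normalizer_iff_cj, ← cj_cj]
  exact hcB

namespace Zf

variable (h : Zf B Q V X ZJ L W Z C A z)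
include h

theorem YL_le_CT (i : ι) : YL ZJ L i ≤ CT z ({i} : Set ι)ᶜ := h.DL_le_CT (by simp)

theorem syl_D [Finite G] : Syl B (centralizer (ZJ : Set G)) :=
  ⟨h.B_le_D, h.Bp, fun R hR hR2 hBR => le_antisymm (h.syl R hR hR2 hBR) hBR⟩

section norm

variable [Finite G]

theorem norm_ZJ {g : G} (hg : g ∈ normalizer (B : Set G)) : g ∈ normalizer (ZJ : Set G) := by
  rw [mem_normalizer_iff_cj]
  conv_rhs => rw [← h.fr.zcB]
  conv_lhs => rw [← h.fr.zcB]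
  rw [← LemmaK.Main.zc_cj, cj_eq_of_mem_normalizer hg]

/-- **a symmetry from `N_G(B)`** -/
theorem sy_of_norm
    (cjY : ∀ g ∈ normalizer (B : Set G), ∀ i j, g * z i * g⁻¹ = z j → cj g (L i) ≤ YL ZJ L j)
    {g : G} (hg : g ∈ normalizer (B : Set G)) {π : Equiv.Perm ι} (hπ : ∀ l, g * z l * g⁻¹ = z (π l)) :
    Sy (o2 (centralizer (ZJ : Set G))) (YL ZJ L) (NL ZJ L z) g π := by
  have hY : ∀ g ∈ normalizer (B : Set G), ∀ i j, g * z i * g⁻¹ = z j → cj g (YL ZJ L i) ≤ YL ZJ L j := by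
    intro g hg i j hij
    have e : cj g (YL ZJ L i) = cj g (centralizer (ZJ : Set G)) ⊔ cj g (L i) := Subgroup.map_sup _ _ _
    rw [e, cj_centralizer, cj_eq_of_mem_normalizer (h.norm_ZJ hg)]
    exact sup_le (D_le_YL j) (cjY g hg i j hij)
  have hN : ∀ g ∈ normalizer (B : Set G), ∀ i j, g * z i * g⁻¹ = z j → cj g (NL ZJ L z i) ≤ NL ZJ L z j := by
    intro g hg i j hij
    refine cj_iSup_le fun y => ?_
    have h1 : g * y * g⁻¹ ∈ YL ZJ L j := hY g hg i j hij ⟨y, y.2, rfl⟩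
    have h2 : cj g (zpowers (z i)) ≤ zpowers (z j) := by
      rintro _ ⟨x, hx, rfl⟩
      obtain ⟨n, rfl⟩ := mem_zpowers_iff.1 hx
      refine mem_zpowers_iff.2 ⟨n, ?_⟩
      show z j ^ n = g * z i ^ n * g⁻¹
      rw [← conj_zpow, hij]
    have h3 : cj g (cj (y : G) (zpowers (z i))) = cj (g * y * g⁻¹) (cj g (zpowers (z i))) := by
      rw [cj_cj, cj_cj]
      congr 1
      group
    rw [h3]
    exact (cj_mono _ h2).trans (cj_le_EE h1)
  have hinv : ∀ l, g⁻¹ * z (π l) * g⁻¹⁻¹ = z l := fun l => by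
    rw [← hπ l]; group
  have hg' : g⁻¹ ∈ normalizer (B : Set G) := inv_mem hg
  refine ⟨?_, fun l => le_antisymm (hY g hg _ _ (hπ l)) ?_, fun l => le_antisymm (hN g hg _ _ (hπ l)) ?_⟩
  · have h1 : g ∈ normalizer (centralizer (ZJ : Set G) : Set G) := by
      rw [mem_normalizer_iff_cj, cj_centralizer, cj_eq_of_mem_normalizer (h.norm_ZJ hg)]
    exact cj_eq_of_mem_normalizer (ZN.normalizer_le_normalizer_o2 _ h1)
  · have h1 := cj_mono g (hY _ hg' _ _ (hinv l))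
    rwa [cj_cj_inv] at h1
  · have h1 := cj_mono g (hN _ hg' _ _ (hinv l))
    rwa [cj_cj_inv] at h1

variable [Finite ι]

/-- an element which permutes the `z l` normalises `ZJ` -/
theorem norm_of_perm {g : G} {π : Equiv.Perm ι} (hπ : ∀ l, g * z l * g⁻¹ = z (π l)) :
    g ∈ normalizer (ZJ : Set G) := by
  have key : ∀ (g : G) (π : Equiv.Perm ι), (∀ l, g * z l * g⁻¹ = z (π l)) → cj g ZJ ≤ ZJ := by
    intro g π hπ
    refine (cj_mono g (ZJ_le_iSup (OM.Lev.Main.toFg h.fr))).trans (cj_iSup_le fun l => ?_)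
    rintro _ ⟨x, hx, rfl⟩
    rcases (h.hz l x).1 hx with rfl | rfl
    · show g * 1 * g⁻¹ ∈ ZJ
      rw [mul_one, mul_inv_cancel]
      exact one_mem _
    · show g * z l * g⁻¹ ∈ ZJ
      rw [hπ]
      exact h.z_mem _
  refine EK3.StarE.norm_of_cj_le (key g π hπ) (key g⁻¹ π⁻¹ fun l => ?_)
  have h1 := hπ (π⁻¹ l)
  rw [show π (π⁻¹ l) = l by simp] at h1
  rw [← h1]; group

/-- **any element which permutes the `z l`** -/
theorem exists_sy
    (cjY : ∀ g ∈ normalizer (B : Set G), ∀ i j, g * z i * g⁻¹ = z j → cj g (L i) ≤ YL ZJ L j)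
    {g : G} {π : Equiv.Perm ι} (hπ : ∀ l, g * z l * g⁻¹ = z (π l)) :
    ∃ g', Sy (o2 (centralizer (ZJ : Set G))) (YL ZJ L) (NL ZJ L z) g' π := by
  have hn : g ∈ normalizer (centralizer (ZJ : Set G) : Set G) := by
    rw [mem_normalizer_iff_cj, cj_centralizer, cj_eq_of_mem_normalizer (h.norm_of_perm hπ)]
  obtain ⟨c, hc, hcB⟩ := exists_norm_mul h.syl_D hn
  refine ⟨c * g, h.sy_of_norm cjY hcB fun l => ?_⟩
  have h2 : z (π l) * c = c * z (π l) := mem_centralizer_iff.1 hc _ (h.z_mem _)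
  calc c * g * z l * (c * g)⁻¹ = c * (g * z l * g⁻¹) * c⁻¹ := by group
    _ = c * z (π l) * c⁻¹ := by rw [hπ]
    _ = z (π l) := by rw [← h2]; group

/-- **`CoreS.Core` over `Zf`** -/
theorem core [Nonempty ι] (hML : ML.Final.MLK.{u, u}) (hK : ∀ i, IsKGroup (YL ZJ L i))
    (three : ∀ i j : ι, ∃ l, l ≠ i ∧ l ≠ j)
    (tr : ∀ i j, ∃ g, ∃ σ : Equiv.Perm ι,
      Sy (o2 (centralizer (ZJ : Set G))) (YL ZJ L) (NL ZJ L z) g σ ∧ σ i = j)
    (sw : ∀ i j, i ≠ j → ∃ g, ∃ σ : Equiv.Perm ι,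
      Sy (o2 (centralizer (ZJ : Set G))) (YL ZJ L) (NL ZJ L z) g σ ∧
        ((σ i = i ∧ σ j ≠ j) ∨ (σ i = j ∧ σ j = i))) :
    Core (o2 (centralizer (ZJ : Set G))) (centralizer (ZJ : Set G)) ZJ (YL ZJ L) (NL ZJ L z) where
  two := MinSimple.VModule.o2_isPGroup _
  OY i := (Cfsg.Agent.ZN.o2_le _).trans (D_le_YL i)
  OZ := Cfsg.Agent.ZN.o2_le _
  DY := D_le_YL
  three := three
  ne := inferInstance
  eab I hI := h.EI_el h.YL_le_CT hI
  NE i := (h.N_le_EE i _).trans (EE_mono (le_iSup (fun i : ({i} : Set ι) => YL ZJ L i) ⟨i, rfl⟩))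
  YN i := norm_EE _ _
  YQ i := h.YQ (D_le_YL i) (h.YL_le_CT i)
  no i := by
    obtain ⟨l, hl, -⟩ := three i i
    exact h.no hML (hK i) (D_le_YL i) (h.YL_le_CT i) ⟨l, hl⟩
  gen i K hKY hYK hm := by
    obtain ⟨l, hl, -⟩ := three i i
    exact h.gen ⟨l, hl⟩ hKY hYK hm
  tr := tr
  sw := sw

/-- **THEOREM S'' over `Zf`.** -/
theorem false_of [Nonempty ι] (hML : ML.Final.MLK.{u, u}) (hK : IsKProper G)
    (cjY : ∀ g ∈ normalizer (B : Set G), ∀ i j, g * z i * g⁻¹ = z j → cj g (L i) ≤ YL ZJ L j)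
    (nl : ∀ U : Subgroup G, U ≠ ⊥ → IsPGroup 2 U → ¬ ∀ i, YL ZJ L i ≤ normalizer (U : Set G))
    (three : ∀ i j : ι, ∃ l, l ≠ i ∧ l ≠ j)
    (tr : ∀ i j, ∃ g, ∃ π : Equiv.Perm ι, (∀ l, g * z l * g⁻¹ = z (π l)) ∧ π i = j)
    (sw : ∀ i j, i ≠ j → ∃ g, ∃ π : Equiv.Perm ι, (∀ l, g * z l * g⁻¹ = z (π l)) ∧
      ((π i = i ∧ π j ≠ j) ∨ (π i = j ∧ π j = i))) : False := by
  obtain ⟨i₀⟩ := ‹Nonempty ι›
  have : Nonempty ι := ⟨i₀⟩
  have hKi : ∀ i, IsKGroup (YL ZJ L i) := by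
    intro i
    refine hK _ fun e => ?_
    obtain ⟨l, hl, -⟩ := three i i
    -- `z l` is central in `G`
    have h1 : ∀ g : G, g * z l = z l * g := fun g =>
      mem_CT.1 (h.YL_le_CT i (by rw [e]; exact mem_top g)) l hl
    refine nl (zpowers (z l)) (fun e1 => h.z_ne l (zpowers_eq_bot.1 e1)) ?_ fun j g _ => ?_
    · refine h.Bp.to_le (zpowers_le.2 ?_)
      have h2 : z l ∈ zc B := by
        rw [h.fr.zcB]
        exact h.z_mem l
      exact (mem_zc.1 h2).1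
    · rw [mem_normalizer_iff_cj]
      refine cj_eq_of_mem_normalizer (centralizer_le_normalizer _ (mem_centralizer_iff.2 fun x hx => ?_))
      obtain ⟨n, rfl⟩ := hx
      exact ((show Commute g (z l) from h1 g).zpow_right n).eq.symm
  have hO : o2 (centralizer (ZJ : Set G)) ≠ ⊥ := by
    intro e
    obtain ⟨l, hl, -⟩ := three i₀ i₀
    have h1 : z i₀ ∈ EE ZJ (YL ZJ L i₀) := h.N_le_EE i₀ _ (z_mem_EE i₀ _)
    have h2 := h.E_le_O (T := ({i₀} : Set ι)ᶜ) ⟨l, hl⟩ (h.YL_le_CT i₀) h1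
    rw [e, mem_bot] at h2
    exact h.z_ne i₀ h2
  obtain ⟨R, hR, hR2, hn⟩ := (h.core hML hKi three
    (fun i j => by
      obtain ⟨g, π, hπ, h1⟩ := tr i j
      obtain ⟨g', hs⟩ := h.exists_sy cjY hπ
      exact ⟨g', π, hs, h1⟩)
    (fun i j hij => by
      obtain ⟨g, π, hπ, h1⟩ := sw i j hij
      obtain ⟨g', hs⟩ := h.exists_sy cjY hπ
      exact ⟨g', π, hs, h1⟩)).local hO
  exact nl R hR hR2 hn

end norm

end Zf

end Cfsg.Agent.Omega.EDel

end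

section


/-!
# THEOREM S'' (#23971), [D]: `N_G(B)` on the light pairs (symmetric types)

`d i = {X i, Y i}` in the factor `J i` (`Ch`), `B` a Sylow 2-subgroup of `C_G(Z_J)`, `Z_J = ⟨d i⟩`.

* `Pm d g σ` : `g d_l g⁻¹ = d_(σ l)`;
* `Mv B d` : `tr` transitive; `sw` : for `i ≠ j` some `g ∈ N(B)` fixes `i` and moves `j`, or interchanges them;
  `tp` : some `g ∈ N(B)` acts as a transposition;
* `mv_of` : from `SyL`, `Ch` (`m ≥ 2`);  `three_of` : at least three pairs (`k ≥ 2` or `m ≥ 3`);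
* `exists_mv_neg`, `exists_mv_lev` : `Line.exists_sym` (stage `-1`) and `Lev.Sym.exists_sym_lev` with `Mv`;
* `cj_Y`, `cj_N` : the action of `g ∈ N(B)`, `Pm d g σ`, on `Y i = ⟨C(Z_J), L i⟩` and `N i = ⟨d_i^(Y i)⟩`, from UNI.
-/

set_option autoImplicit false
set_option linter.unusedSectionVars false
set_option linter.unusedVariables false

namespace Cfsg.Agent.Omega.EDel

open Subgroup Cfsg Cfsg.Agent.ZN Cfsg.Agent.ZN.ChoiceBase Cfsg.Agent.ZN.ChoiceSit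
open Cfsg.Agent.Omega.FFThm (ActsSym SymK SymKM)
open Cfsg.Agent.Omega.FrameFF (cv)
open Cfsg.Agent.Omega.SQ1.FFSym
open Cfsg.Agent.Omega.OM.Lev.SymIn Cfsg.Agent.Omega.OM.Lev.SymIn.SyL
open Cfsg.Agent.Omega.OM
open Cfsg.Agent.Omega.NO3S (HypJ)
open scoped Pointwise

universe v

variable {G : Type v} [Group G]

theorem cj_sup (g : G) (H K : Subgroup G) : cj g (H ⊔ K) = cj g H ⊔ cj g K := Subgroup.map_sup H K _

/-- `g d_l g⁻¹ = d_(σ l)` -/
def Pm {ι : Type*} (d : ι → G) (g : G) (σ : Equiv.Perm ι) : Prop := ∀ l, g * d l * g⁻¹ = d (σ l)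

/-- `N_G(B)` on the `d i`. -/
structure Mv {ι : Type*} (B : Subgroup G) (d : ι → G) : Prop where
  inj : Function.Injective d
  tr : ∀ i j, ∃ g ∈ normalizer (B : Set G), ∃ σ, Pm d g σ ∧ σ i = j
  sw : ∀ i j, i ≠ j → ∃ g ∈ normalizer (B : Set G), ∃ σ, Pm d g σ ∧ ((σ i = i ∧ σ j ≠ j) ∨ (σ i = j ∧ σ j = i))
  tp : ∃ a b, a ≠ b ∧ ∃ g ∈ normalizer (B : Set G), ∃ σ, Pm d g σ ∧ σ a = b ∧ σ b = a ∧
    ∀ l, l ≠ a → l ≠ b → σ l = l

/-- A conjugation which maps the `d i` to `d i`'s permutes them. -/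
theorem exists_pm {ι : Type*} [Finite ι] {d : ι → G} (hd : Function.Injective d) {g : G}
    (hg : ∀ l, ∃ l', g * d l * g⁻¹ = d l') : ∃ σ, Pm d g σ := by
  choose f hf using hg
  have hinj : Function.Injective f := by
    intro a b hab
    apply hd
    have h1 := (hf a).trans ((congrArg d hab).trans (hf b).symm)
    exact mul_left_cancel (mul_right_cancel h1)
  exact ⟨Equiv.ofBijective f (Finite.injective_iff_bijective.1 hinj), hf⟩

/-- Frattini: `B` a Sylow 2-subgroup of `C(Z_J)`, `g ∈ N(Z_J)`. -/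
theorem frattini [Finite G] {B ZJ : Subgroup G} (hB : Syl B (centralizer (ZJ : Set G))) {g : G}
    (hg : g ∈ normalizer (ZJ : Set G)) : ∃ c ∈ centralizer (ZJ : Set G), c * g ∈ normalizer (B : Set G) := by
  have e : cj g (centralizer (ZJ : Set G)) = centralizer (ZJ : Set G) := by
    rw [cj_centralizer, cj_eq_of_mem_normalizer hg]
  have h1 : Syl (cj g B) (centralizer (ZJ : Set G)) := by
    refine ⟨e ▸ cj_mono g hB.1, isPGroup_cj g hB.2.1, fun Q hQ hQ2 hle => ?_⟩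
    have h2 : cj g⁻¹ Q ≤ centralizer (ZJ : Set G) := by
      have := cj_mono g⁻¹ hQ
      rw [← e, cj_inv_cj] at this
      exact this
    have h3 : B ≤ cj g⁻¹ Q := by
      have := cj_mono g⁻¹ hle
      rwa [cj_inv_cj] at this
    have h4 := hB.2.2 _ h2 (isPGroup_cj _ hQ2) h3
    rw [← h4, cj_cj_inv]
  obtain ⟨c, hc, hcB⟩ := syl_conj h1 hB
  refine ⟨c, hc, ?_⟩
  rw [mem_normalizer_iff_cj, ← cj_cj]
  exact hcB

/-- the same, with the action on the `d i` -/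
theorem frattini_pm [Finite G] {ι : Type*} {B ZJ : Subgroup G} {d : ι → G} (hB : Syl B (centralizer (ZJ : Set G)))
    (hZ : ZJ = closure (Set.range d)) {g : G} {σ : Equiv.Perm ι} (hg : Pm d g σ) :
    ∃ g' ∈ normalizer (B : Set G), Pm d g' σ := by
  have hn : g ∈ normalizer (ZJ : Set G) := by
    rw [mem_normalizer_iff_cj, hZ]
    unfold cj
    rw [MonoidHom.map_closure, ← Set.range_comp]
    congr 1
    ext x
    simp only [Set.mem_range, Function.comp_apply]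
    constructor
    · rintro ⟨l, rfl⟩
      exact ⟨σ l, (hg l).symm⟩
    · rintro ⟨l, rfl⟩
      refine ⟨σ.symm l, ?_⟩
      have h1 := hg (σ.symm l)
      rw [Equiv.apply_symm_apply] at h1
      exact h1
  obtain ⟨c, hc, hcB⟩ := frattini hB hn
  refine ⟨c * g, hcB, fun l => ?_⟩
  have h1 : d (σ l) ∈ ZJ := hZ ▸ subset_closure ⟨σ l, rfl⟩
  have h2 : d (σ l) * c = c * d (σ l) := mem_centralizer_iff.1 hc _ h1
  calc c * g * d l * (c * g)⁻¹ = c * (g * d l * g⁻¹) * c⁻¹ := by group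
    _ = c * d (σ l) * c⁻¹ := by rw [hg l]
    _ = d (σ l) := by rw [← h2]; group

section syl

variable {T H Q V D Jg : Subgroup G} {AA : Set (Subgroup G)} {k n : ℕ} {o : Fin n}
  {e : G → Fin k → Fin n → ZMod 2} {ι : Type} {J : ι → Fin k} {X Y : ι → Fin n} {t r : ι → G}
  (h : SyL T H Q V Jg D AA o e) (c : Ch Jg H V D o e J X Y t r)
include h c

theorem d_inj : Function.Injective fun i => u H V D e (J i) (X i) (Y i) := fun i j hij => c.inj i j hij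

/-- `T` permutes the `d i` -/
theorem exists_pm_T [Finite G] [Finite ι] {s : G} (hs : s ∈ T) :
    ∃ σ, Pm (fun i => u H V D e (J i) (X i) (Y i)) s σ := by
  refine exists_pm (d_inj h c) fun l => ?_
  obtain ⟨σ, τ, ha, -⟩ := h.exists_act hs
  have h1 := (c.tr l).conj h hs ha
  obtain ⟨l', hl'⟩ := c.ex _ _ _ h1
  exact ⟨l', by rw [h.u_conj (h.TH hs) ha, hl']⟩

/-- `T` is transitive on the `d i` -/
theorem exists_tr_T [Finite G] [Finite ι] (i j : ι) :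
    ∃ s ∈ T, ∃ σ, Pm (fun i => u H V D e (J i) (X i) (Y i)) s σ ∧ σ i = j := by
  -- the factor
  obtain ⟨s₁, hs₁, σ₁, τ₁, ha₁, hσ₁⟩ := h.trans (J i) (J j)
  have h1 := (c.tr i).conj h hs₁ ha₁
  have e1 := h.u_conj (h.TH hs₁) ha₁ (J i) (X i) (Y i)
  rw [hσ₁] at h1 e1
  -- the point
  obtain ⟨s₂, hs₂, π, hπ, hπx⟩ := h.cyc_T Cfsg.Agent.Omega.SQ1.SymCyc.exists_pow (J j) (h1.ne h).1.symm
    ((c.tr j).ne h).1.symm
  have h2 := h1.conj h hs₂ hπ.act
  have e2 := h.u_conj (h.TH hs₂) hπ.act (J j) (τ₁ (J i) (X i)) (τ₁ (J i) (Y i))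
  rw [Equiv.Perm.one_apply, Pi.mulSingle_eq_same, hπx] at h2 e2
  have h3 := h2.disj h (c.tr j)
  rw [h3] at e2
  have hs : s₂ * s₁ ∈ T := mul_mem hs₂ hs₁
  obtain ⟨σ, hσ⟩ := exists_pm_T h c hs
  refine ⟨_, hs, σ, hσ, ?_⟩
  apply d_inj h c
  have h4 := hσ i
  simp only at h4 ⊢
  rw [← h4]
  calc s₂ * s₁ * u H V D e (J i) (X i) (Y i) * (s₂ * s₁)⁻¹
      = s₂ * (s₁ * u H V D e (J i) (X i) (Y i) * s₁⁻¹) * s₂⁻¹ := by group
    _ = _ := by rw [e1, e2]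

/-- a further pair in the factor of `i`, avoiding a set of points -/
theorem exists_idx_of [Finite G] (j : Fin k) (F : Finset (Fin n)) (hF : F.card < n) (ho : o ∈ F) :
    ∃ l, J l = j ∧ (X l ∉ F ∨ Y l ∉ F) := by
  obtain ⟨x, hx⟩ : ∃ x, x ∉ F := by
    by_contra hcon
    push Not at hcon
    have : F = Finset.univ := Finset.eq_univ_of_forall hcon
    rw [this, Finset.card_univ, Fintype.card_fin] at hF
    omega
  obtain ⟨y, hy⟩ := h.cover Cfsg.Agent.Omega.SQ1.SymCyc.exists_pow j (fun e : x = o => hx (e ▸ ho))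
  obtain ⟨l, hl, -, -, h1⟩ := c.exists_idx h hy
  refine ⟨l, hl, ?_⟩
  rcases h1 with ⟨h1, -⟩ | ⟨-, h1⟩
  · exact Or.inl (by rw [h1]; exact hx)
  · exact Or.inr (by rw [h1]; exact hx)

/-- the partner -/
theorem exists_partner [Finite G] (hn : 5 ≤ n) (i : ι) : ∃ l, l ≠ i ∧ J l = J i := by
  classical
  obtain ⟨l, hl, h1⟩ := exists_idx_of h c (J i) {o, X i, Y i} (lt_of_le_of_lt Finset.card_le_three (by omega))
    (by simp)
  refine ⟨l, ?_, hl⟩
  rintro rfl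
  rcases h1 with h1 | h1 <;> exact h1 (by simp)

/-- at least three pairs -/
theorem three_of [Finite G] (hn : 5 ≤ n) (hkn : 2 ≤ k ∨ 6 ≤ n) (i j : ι) : ∃ l, l ≠ i ∧ l ≠ j := by
  classical
  by_cases hJ : J j = J i
  · rcases hkn with hk | hn'
    · -- another factor
      obtain ⟨j', hj'⟩ : ∃ j' : Fin k, j' ≠ J i := by
        have : Nontrivial (Fin k) := Fin.nontrivial_iff_two_le.2 hk
        exact exists_ne _
      obtain ⟨l, hl, -⟩ := exists_idx_of h c j' {o} (by simp; omega) (by simp)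
      refine ⟨l, ?_, ?_⟩
      · rintro rfl; exact hj' hl.symm
      · rintro rfl; exact hj' (hl.symm.trans hJ)
    · obtain ⟨l, hl, h1⟩ := exists_idx_of h c (J i) {o, X i, Y i, X j, Y j}
        (lt_of_le_of_lt Finset.card_le_five (by omega)) (by simp)
      refine ⟨l, ?_, ?_⟩ <;> (rintro rfl; rcases h1 with h1 | h1 <;> exact h1 (by simp))
  · obtain ⟨l, hl, hJl⟩ := exists_partner h c hn i
    exact ⟨l, hl, fun e => hJ (by rw [← e]; exact hJl)⟩

/-- the interchange of two pairs of one factor, as an element of `N_G(B)` -/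
theorem exists_swap_B [Finite G] [Finite ι] {B ZJ : Subgroup G} (hB : Syl B (centralizer (ZJ : Set G)))
    (hZ : ZJ = closure (Set.range fun i => u H V D e (J i) (X i) (Y i))) {i j : ι} (hij : i ≠ j) (hJ : J i = J j) :
    ∃ g ∈ normalizer (B : Set G), ∃ σ, Pm (fun i => u H V D e (J i) (X i) (Y i)) g σ ∧ σ i = j ∧ σ j = i ∧
      ∀ l, l ≠ i → l ≠ j → σ l = l := by
  classical
  obtain ⟨g, -, h1, h2, h3⟩ := ESym.exists_swap h c hij hJ
  have hP : Pm (fun i => u H V D e (J i) (X i) (Y i)) g (Equiv.swap i j) := by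
    intro l
    by_cases hi : l = i
    · subst hi
      rw [Equiv.swap_apply_left]
      exact h1
    · by_cases hj : l = j
      · subst hj
        rw [Equiv.swap_apply_right]
        exact h2
      · rw [Equiv.swap_apply_of_ne_of_ne hi hj]
        exact h3 l hi hj
  obtain ⟨g', hg', hP'⟩ := frattini_pm hB hZ hP
  exact ⟨g', hg', _, hP', Equiv.swap_apply_left _ _, Equiv.swap_apply_right _ _,
    fun l hi hj => Equiv.swap_apply_of_ne_of_ne hi hj⟩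

/-- **`Mv` from the coordinates.** -/
theorem mv_of [Finite G] [Finite ι] (hn : 5 ≤ n) {B ZJ : Subgroup G} (hB : Syl B (centralizer (ZJ : Set G)))
    (hZ : ZJ = closure (Set.range fun i => u H V D e (J i) (X i) (Y i))) (hT : T ≤ normalizer (B : Set G)) :
    Mv B fun i => u H V D e (J i) (X i) (Y i) where
  inj := d_inj h c
  tr := fun i j => by
    obtain ⟨s, hs, σ, hσ, hij⟩ := exists_tr_T h c i j
    exact ⟨s, hT hs, σ, hσ, hij⟩
  sw := fun i j hij => by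
    by_cases hJ : J i = J j
    · obtain ⟨g, hg, σ, hσ, h1, h2, -⟩ := exists_swap_B h c hB hZ hij hJ
      exact ⟨g, hg, σ, hσ, Or.inr ⟨h1, h2⟩⟩
    · obtain ⟨l, hl, hJl⟩ := exists_partner h c hn j
      obtain ⟨g, hg, σ, hσ, h1, h2, h3⟩ := exists_swap_B h c hB hZ hl hJl
      refine ⟨g, hg, σ, hσ, Or.inl ⟨h3 i ?_ hij, ?_⟩⟩
      · rintro rfl; exact hJ hJl
      · rw [h2]; exact hl
  tp := by
    obtain ⟨j, x, y, hT⟩ := h.exists_tr
    obtain ⟨i, -⟩ := c.ex j x y hT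
    obtain ⟨l, hl, hJl⟩ := exists_partner h c hn i
    obtain ⟨g, hg, σ, hσ, h1, h2, h3⟩ := exists_swap_B h c hB hZ hl hJl
    exact ⟨l, i, hl, g, hg, σ, hσ, h1, h2, h3⟩

end syl

/-! ### Stage `-1`: `SyT` as `SyL` -/

section neg

variable {T H Q V D : Subgroup G} {k n : ℕ} {o : Fin n} {e : G → Fin k → Fin n → ZMod 2} {ι : Type}
  {J : ι → Fin k} {X Y : ι → Fin n} {t r : ι → G}

theorem syL_of_syT [Finite G] (h : SyT T H Q V D o e) : SyL T H Q V (jj T) D (AA T) o e :=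
  { h with
    JT := ChoiceBase.jj_le T
    Jn := fun x hx y hy => SyT.J_norm hx hy
    AJ := fun A hA => le_jj hA
    Jle := by rw [jj_eq]; exact le_sup_left }

theorem ch_of_ch (c : SQ1.FFSym.SyT.Ch T H V D o e J X Y t r) : Ch (jj T) H V D o e J X Y t r where
  tr := c.tr
  tJ := c.tJ
  tg := c.tg
  rg := c.rg
  inj := c.inj
  ex := c.ex

end neg

/-- `S ≤ N(C_S(Z_J))` -/
theorem le_norm_cent {S ZJ : Subgroup G} (hZ : S ≤ normalizer (ZJ : Set G)) :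
    S ≤ normalizer ((S ⊓ centralizer (ZJ : Set G) : Subgroup G) : Set G) := by
  intro s hs
  rw [mem_normalizer_iff_cj, cj_inf, cj_centralizer, cj_eq_of_mem_normalizer (hZ hs),
    cj_eq_of_mem_normalizer (Subgroup.le_normalizer hs)]

/-- **Stage `-1`, symmetric modules (`m ≥ 2`)**: `Line.exists_sym` with `Mv`. -/
theorem exists_mv_neg [Finite G] {S : Sylow 2 G} {P : Subgroup G} (h : HypJ S P) {k m : ℕ} (hk : 0 < k) (hm : 2 ≤ m)
    (N : SymK (S : Subgroup G) P (zl (S : Subgroup G) P) (cv (S : Subgroup G) P) k m) :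
    ∃ (ι : Type) (_ : Finite ι) (W : ι → Subgroup G) (d t r : ι → G) (L A : ι → Subgroup G),
      OM.SymOut (S : Subgroup G) P (zl (S : Subgroup G) P) W d t r ∧
      (∀ i, SQ1.BauS.Blk P (S : Subgroup G) (zl (S : Subgroup G) P) d r i (L i)) ∧
      (∀ x ∈ (S : Subgroup G), ∀ i j, x * d i * x⁻¹ = d j → cj x (L i) = L j) ∧
      (∀ i, A i ∈ AA (S : Subgroup G)) ∧
      Line S P L W (fun i => zpowers (d i)) (fun i => FrSym.CC W i) A 2 ∧
      Mv (bau (S : Subgroup G)) d ∧ ((2 ≤ k ∨ 3 ≤ m) → ∀ i j : ι, ∃ l, l ≠ i ∧ l ≠ j) := by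
  obtain ⟨ι, J, X, Y, t, r, h0, hc0, h2⟩ := symOut h.toHyp.syl h.star.toIsMinPar
    (h.star.isLoc.char2 S h.ctx.char2) h.jnot hk (by omega) N h.toHyp.cv
  obtain ⟨L, A, hL, hc, hA, hF⟩ := FrSym.symFr h2 (Uni.mx_sylow S)
  have hfin : Finite ι := h2.bau.finite_index
  have h4 : 2 ^ 2 ≤ 2 ^ m := Nat.pow_le_pow_right (by norm_num) hm
  have h5 : 5 ≤ 2 ^ m + 1 := by omega
  have hl := syL_of_syT h0
  have hch := ch_of_ch hc0
  have eqB : bau (S : Subgroup G) = (S : Subgroup G) ⊓ centralizer (zj (S : Subgroup G) : Set G) := rfl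
  have hZ : (S : Subgroup G) ≤ normalizer (zj (S : Subgroup G) : Set G) :=
    (Line.S_le S).trans (by rw [← ChoiceBase.zc_bau]; exact normalizer_le_of_cj (F := zc) LemmaK.Main.zc_cj _)
  refine ⟨ι, hfin, _, _, t, r, L, A, h2, hL, hc, hA, ⟨h, hF, fun i => ?_⟩, ?_, fun hkm => ?_⟩
  · obtain ⟨l, hl', -⟩ := exists_partner hl hch h5 i
    exact ⟨l, hl'⟩
  · exact mv_of hl hch h5 (WOneG.syl_B S eqB hZ) h2.zj_eq (Line.S_le S)
  · refine three_of hl hch h5 ?_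
    rcases hkm with h6 | h6
    · exact Or.inl h6
    · have h7 : 2 ^ 3 ≤ 2 ^ m := Nat.pow_le_pow_right (by norm_num) h6
      exact Or.inr (by omega)

/-! ### Stage `n` -/

section lev

open Cfsg.Agent.Omega.OM.Lev.Sym
open Cfsg.Agent.Omega.OM.Lev.SIn (In In0 ZJ BB Blk mem_ZJ mem_BB)
open Cfsg.Agent.Omega.OM.Lev.Uni (FrL Best)
open Cfsg.Agent.Omega.NO3S.OneLine (Exa BFam)
open Cfsg.Agent.Omega.OM.FrSym (CC)
open Cfsg.Agent.Omega.NO3S.Level (Lev BO nxt)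
open Cfsg.Agent.Omega.MinPar (IsParS)

variable [Finite G] {S : Sylow 2 G} {P X : Subgroup G} {AA : Set (Subgroup G)}

/-- **The symmetric frame** (`m ≥ 2`) with `Mv`. -/
theorem exists_mv {K : Subgroup G} (h : Exa S P X K AA) {Jg : Subgroup G} {k m : ℕ} (hk : 0 < k) (hm : 2 ≤ m)
    (N : SymKM (S : Subgroup G) P (zl (S : Subgroup G) P) (cv (S : Subgroup G) P) k m)
    (JT : Jg ≤ (S : Subgroup G)) (Jn : ∀ x ∈ (S : Subgroup G), ∀ y ∈ Jg, x * y * x⁻¹ ∈ Jg)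
    (AJ : ∀ A ∈ AA, A ≤ Jg) (Jle : Jg ≤ sSup AA ⊔ ((S : Subgroup G) ⊓ centralizer (X : Set G))) :
    ∃ (ι : Type) (_ : Finite ι) (W : ι → Subgroup G) (d t r : ι → G) (Lb A : ι → Subgroup G),
      SymOut (S : Subgroup G) P (zl (S : Subgroup G) P) Jg W d t r ∧
      (∀ i, Blk P (S : Subgroup G) (zl (S : Subgroup G) P) (ZJ (zl (S : Subgroup G) P) Jg) d r i (Lb i)) ∧
      (∀ x ∈ (S : Subgroup G), ∀ i j, x * d i * x⁻¹ = d j → cj x (Lb i) = Lb j) ∧
      (∀ i, A i ≤ Jg) ∧ (∀ i : ι, ∃ j, j ≠ i) ∧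
      FrL (BB (S : Subgroup G) (ZJ (zl (S : Subgroup G) P) Jg)) (o2 P) (zl (S : Subgroup G) P) X
        (ZJ (zl (S : Subgroup G) P) Jg) Lb W (fun i => zpowers (d i)) (fun i => CC W i) A 2 ∧
      Mv (BB (S : Subgroup G) (ZJ (zl (S : Subgroup G) P) Jg)) d ∧
      ((2 ≤ k ∨ 3 ≤ m) → ∀ i j : ι, ∃ l, l ≠ i ∧ l ≠ j) := by
  have hm1 : 1 ≤ m := by omega
  obtain ⟨ι, J, U, Y, t, r, h0, Lb, A, c, hs, hL, hc, hAJ, hF⟩ := exists_frame h hk hm1 N (h.cv_eq_bot_sym N)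
    (h.zc_o2_sym N hk hm1) JT Jn AJ Jle
  have hfin : Finite ι := hs.bau.finite_index
  have h4 : 2 ^ 2 ≤ 2 ^ m := Nat.pow_le_pow_right (by norm_num) hm
  have h5 : 5 ≤ 2 ^ m + 1 := by omega
  have eqB : BB (S : Subgroup G) (ZJ (zl (S : Subgroup G) P) Jg) =
      (S : Subgroup G) ⊓ centralizer (ZJ (zl (S : Subgroup G) P) Jg : Set G) := rfl
  have hZ : (S : Subgroup G) ≤ normalizer (ZJ (zl (S : Subgroup G) P) Jg : Set G) := by
    refine EK3.StarE.le_norm_of_cj_le fun s hs' => ?_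
    rintro _ ⟨z, hz, rfl⟩
    obtain ⟨h6, h7⟩ := mem_ZJ.1 hz
    refine mem_ZJ.2 ⟨h0.Vn s (h0.TH hs') z h6, fun j hj => ?_⟩
    have h8 : s⁻¹ * j * s ∈ Jg := by
      have := Jn s⁻¹ (inv_mem hs') j hj
      rwa [inv_inv] at this
    show j * (s * z * s⁻¹) = s * z * s⁻¹ * j
    calc j * (s * z * s⁻¹) = s * ((s⁻¹ * j * s) * z) * s⁻¹ := by group
      _ = s * (z * (s⁻¹ * j * s)) * s⁻¹ := by rw [h7 _ h8]
      _ = s * z * s⁻¹ * j := by group
  refine ⟨ι, hfin, _, _, t, r, Lb, A, hs, hL, hc, hAJ, fun i => ?_, hF, ?_, fun hkm => ?_⟩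
  · obtain ⟨l, hl', -⟩ := exists_partner h0 c h5 i
    exact ⟨l, hl'⟩
  · exact mv_of h0 c h5 (WOneG.syl_B S eqB hZ) hs.ZJ_eq (by rw [eqB]; exact le_norm_cent hZ)
  · refine three_of h0 c h5 ?_
    rcases hkm with h6 | h6
    · exact Or.inl h6
    · have h7 : 2 ^ 3 ≤ 2 ^ m := Nat.pow_le_pow_right (by norm_num) h6
      exact Or.inr (by omega)

/-- **The symmetric frame at a level `K ≤ O₂(P)`**, `B = C_S(Ω₁(Z(nxt S K)))`, `X = Ω₁(Z(K))`, with `Mv`. -/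
theorem exists_mv_lev {K : Subgroup G} (hFF : FFThm.StmtM.{v}) (hG : IsCharacteristicTwoType G)
    (hP : IsParS (S : Subgroup G) P) (hL : Lev (S : Subgroup G) K) (hK : K ≤ o2 P)
    (hcen : zc (S : Subgroup G) ⊓ centralizer (P : Set G) = ⊥)
    (hJ : ∃ A ∈ BO (S : Subgroup G) K, ¬ A ≤ o2 P) {k m : ℕ} (hk : 0 < k) (hm : 2 ≤ m)
    (N : SymKM (S : Subgroup G) P (zl (S : Subgroup G) P) (cv (S : Subgroup G) P) k m) :
    ∃ (ι : Type) (_ : Finite ι) (W : ι → Subgroup G) (d t r : ι → G) (Lb A : ι → Subgroup G),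
      SymOut (S : Subgroup G) P (zl (S : Subgroup G) P) (nxt (S : Subgroup G) K) W d t r ∧
      (∀ i, Blk P (S : Subgroup G) (zl (S : Subgroup G) P) (zc (nxt (S : Subgroup G) K)) d r i (Lb i)) ∧
      (∀ x ∈ (S : Subgroup G), ∀ i j, x * d i * x⁻¹ = d j → cj x (Lb i) = Lb j) ∧
      (∀ i, A i ≤ nxt (S : Subgroup G) K) ∧ (∀ i : ι, ∃ j, j ≠ i) ∧
      FrL ((S : Subgroup G) ⊓ centralizer (zc (nxt (S : Subgroup G) K) : Set G)) (o2 P) (zl (S : Subgroup G) P)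
        (zc K) (zc (nxt (S : Subgroup G) K)) Lb W (fun i => zpowers (d i)) (fun i => CC W i) A 2 ∧
      Mv ((S : Subgroup G) ⊓ centralizer (zc (nxt (S : Subgroup G) K) : Set G)) d ∧
      ((2 ≤ k ∨ 3 ≤ m) → ∀ i j : ι, ∃ l, l ≠ i ∧ l ≠ j) := by
  obtain ⟨h, hc⟩ := NO3S.OneLine.exa_lev hFF hG hP hL hK hcen hJ
  have e1 := (NO3S.OneLine.lev_eq hFF hG hP hL hK hcen hJ).2
  have e2 : ZJ (zl (S : Subgroup G) P) (nxt (S : Subgroup G) K) = zc (nxt (S : Subgroup G) K) := e1.symm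
  obtain ⟨ι, hι, W, d, t, r, Lb, A, h1, h2, h3, h4, h5, h6, h7, h8⟩ := exists_mv h hk hm N (NO3S.Level.nxt_le _ _)
    (nxt_norm hL) (fun A hA => NO3S.Level.BO.le_nxt hA) (nxt_le_sup _ _)
  have e3 : BB (S : Subgroup G) (ZJ (zl (S : Subgroup G) P) (nxt (S : Subgroup G) K)) =
      (S : Subgroup G) ⊓ centralizer (zc (nxt (S : Subgroup G) K) : Set G) := by rw [e2]; rfl
  rw [e3] at h7 h6
  rw [e2] at h2 h6
  exact ⟨ι, hι, W, d, t, r, Lb, A, h1, h2, h3, h4, h5, h6, h7, h8⟩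

end lev

/-! ### The action on `Y i` and `N i` -/

section act

open Cfsg.Agent.Omega.Node.MultiOf (FBl FBl.conj)
open Cfsg.Agent.Omega.EK3.StarE (EE_le cj_le_EE)

variable {ι : Type*} {B ZJ : Subgroup G} {L W : ι → Subgroup G} {d : ι → G}

/-- `cj g ⟨Z₀^H⟩ = ⟨(Z₀^g)^(H^g)⟩` -/
theorem cj_EE (g : G) (Z₀ H : Subgroup G) : cj g (EK3.StarE.EE Z₀ H) = EK3.StarE.EE (cj g Z₀) (cj g H) := by
  apply le_antisymm
  · rw [cj_le_iff]
    refine EE_le fun y hy => ?_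
    rw [← cj_le_iff, cj_cj]
    have e : g * y = (g * y * g⁻¹) * g := by group
    rw [e, ← cj_cj]
    have h1 : g * y * g⁻¹ ∈ cj g H := mem_map_of_mem _ hy
    exact cj_le_EE h1
  · refine EE_le ?_
    rintro _ ⟨y, hy, rfl⟩
    show cj (g * y * g⁻¹) (cj g Z₀) ≤ _
    rw [cj_cj]
    have e : g * y * g⁻¹ * g = g * y := by group
    rw [e, ← cj_cj]
    exact cj_mono g (cj_le_EE hy)

theorem cj_zpowers (g x : G) : cj g (zpowers x) = zpowers (g * x * g⁻¹) := by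
  unfold cj
  rw [MonoidHom.map_zpowers]
  rfl

/-- **`(C(Z_J) L_i)^g = C(Z_J) L_(σ i)`** -/
theorem cj_Y (fbl : ∀ i, FBl B (L i) (W i))
    (uni : ∀ L' V' : Subgroup G, FBl B L' V' → ∃ i, V' = W i ∧ L' ≤ L i ⊔ centralizer ((W i ⊔ ZJ : Subgroup G) : Set G))
    (hdW : ∀ i j, d i ∈ W j → i = j) (hdm : ∀ i, d i ∈ W i)
    (hBZ : normalizer (B : Set G) ≤ normalizer (ZJ : Set G))
    {g : G} (hg : g ∈ normalizer (B : Set G)) {σ : Equiv.Perm ι} (hσ : Pm d g σ) (i : ι) :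
    cj g (centralizer (ZJ : Set G) ⊔ L i) = centralizer (ZJ : Set G) ⊔ L (σ i) := by
  have key : ∀ g ∈ normalizer (B : Set G), ∀ σ : Equiv.Perm ι, Pm d g σ → ∀ i,
      cj g (centralizer (ZJ : Set G) ⊔ L i) ≤ centralizer (ZJ : Set G) ⊔ L (σ i) := by
    intro g hg σ hσ i
    have e1 : cj g (centralizer (ZJ : Set G)) = centralizer (ZJ : Set G) := by
      rw [cj_centralizer, cj_eq_of_mem_normalizer (hBZ hg)]
    obtain ⟨l, hl, hle⟩ := uni _ _ ((fbl i).conj hg)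
    have h1 : d (σ i) ∈ W l := by
      rw [← hσ i, ← hl]
      exact ⟨d i, hdm i, rfl⟩
    rw [← hdW _ _ h1] at hle
    rw [cj_sup, e1]
    refine sup_le le_sup_left (hle.trans (sup_le le_sup_right (le_sup_of_le_left (centralizer_le ?_))))
    exact_mod_cast (le_sup_right : ZJ ≤ W (σ i) ⊔ ZJ)
  refine le_antisymm (key g hg σ hσ i) ?_
  have hσ' : Pm d g⁻¹ σ.symm := by
    intro l
    have h1 := hσ (σ.symm l)
    rw [Equiv.apply_symm_apply] at h1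
    rw [← h1]; group
  have h2 := key _ (inv_mem hg) _ hσ' (σ i)
  rw [Equiv.symm_apply_apply] at h2
  have h3 := cj_mono g h2
  rwa [cj_cj_inv] at h3

/-- **`⟨d_i^(Y_i)⟩^g = ⟨d_(σ i)^(Y_(σ i))⟩`** -/
theorem cj_N {Y : ι → Subgroup G} {g : G} {σ : Equiv.Perm ι} (hσ : Pm d g σ) (hY : ∀ i, cj g (Y i) = Y (σ i)) (i : ι) :
    cj g (EK3.StarE.EE (zpowers (d i)) (Y i)) = EK3.StarE.EE (zpowers (d (σ i))) (Y (σ i)) := by
  rw [cj_EE, cj_zpowers, hσ i, hY i]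

end act

end Cfsg.Agent.Omega.EDel

end

end

-- merged: Cfsg.Agent.Mrg.Omega.EDel.LX
section

/-!
# THEOREM S'': the instance at every stage, with coordinates

`LX S P B ZJ X N` : the light pairs `i : ι` of `V_P` (`Prs`), the frame `FrL` of the blocks `L i` over `B`, `N_G(B)` permutes
the blocks (`uni`), UNI+ for the FF-blocks over `B` with module in `X` (`uniX`).

* `exists_lx_lev` : at every level `K₀ ≤ O₂(P)`, `X = Ω₁(Z(K₀))`; `exists_lx_top`, `exists_lx_caseL` (`X = V_P`);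
* `exists_lx_neg` : at the stage `-1`, for every `X`; `exists_lx` : every stage `StgG`;
* `LX.zf`, `LX.cjY`, `LX.tr`, `LX.sw`, **`LX.false_of`** : no nontrivial 2-group is normalised by all the `⟨C_G(ZJ), L i⟩`
  and `k ≥ 2` or `m ≥ 3`: contradiction;
* **`eSX`** : the socket `ESX` (case (L)) for `k ≥ 2` or `m ≥ 3`; `symBigX`, `symManyX` : from (Om) only.
-/

set_option autoImplicit false
set_option linter.unusedSectionVars false

namespace Cfsg.Agent.Omega.EDel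

open Subgroup Cfsg Cfsg.Agent.ZN.ChoiceBase
open Cfsg.Agent.ZN (jj zj bau zc zl o2)
open Cfsg.Agent.ZN.ChoiceSit (Syl)
open Cfsg.Agent.Omega.MinPar (IsParS)
open Cfsg.Agent.Omega.FFThm (SymKM)
open Cfsg.Agent.Omega.FrameFF (cv)
open Cfsg.Agent.Omega.SQ1.FFSym
open Cfsg.Agent.Omega.NO3S (HypF HypN HypJ Hyp SymBigH SymManyH CaseLP)
open Cfsg.Agent.Omega.NO3S.Level (lev nxt Lev BO lev_isLev CaseL)
open Cfsg.Agent.Omega.Frame (Cls)
open Cfsg.Agent.Omega.OM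
open Cfsg.Agent.Omega.OM.LevD (LB)
open Cfsg.Agent.Omega.OM.Lev.Uni (FrL)
open Cfsg.Agent.Omega.OM.FrSym (CC)
open Cfsg.Agent.Omega.Node.MultiOf (FBl KZ NLoc)
open Cfsg.Agent.Omega.Node.MulG (Top StgG exists_BO_caseL top_caseL)
open Cfsg.Agent.Omega.Node.MulX (FBX KX uniTwoX SymL OmSX ESX symBigX_of symManyX_of)
open Cfsg.Agent.Omega.ESym (Prs prs_lev)

universe u

variable {G : Type u} [Group G] [Finite G]

/-- **The light pairs and their blocks over `B`.** -/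
structure LX (S : Sylow 2 G) (P B ZJ X : Subgroup G) {k m : ℕ}
    (N : SymKM (S : Subgroup G) P (zl (S : Subgroup G) P) (cv (S : Subgroup G) P) k m) where
  Xf : Subgroup G
  ι : Type
  J : ι → Fin k
  (U Y : ι → Fin (2 ^ m + 1))
  (L W C A : ι → Subgroup G)
  fi : Finite ι
  ne : Nonempty ι
  three : 2 ≤ k ∨ 3 ≤ m → ∀ i j : ι, ∃ l, l ≠ i ∧ l ≠ j
  prs : Prs (S : Subgroup G) P (zl (S : Subgroup G) P) (0 : Fin (2 ^ m + 1)) N.e J U Y
  frl : FrL B (o2 P) (zl (S : Subgroup G) P) Xf ZJ L W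
    (fun i => zpowers (u P (zl (S : Subgroup G) P) ⊥ N.e (J i) (U i) (Y i))) C A 2
  uni : ∀ g ∈ normalizer (B : Set G), ∀ i, ∃ j, cj g (W i) = W j ∧ cj g (L i) ≤ YL ZJ L j
  uniX : ∀ L' V' : Subgroup G, FBX B X L' V' →
    ∃ i, V' = W i ∧ L' ≤ L i ⊔ centralizer ((W i ⊔ ZJ : Subgroup G) : Set G)

omit [Finite G] in
theorem mem_zpowers_two {x y : G} (hx : x ^ 2 = 1) : y ∈ zpowers x ↔ y = 1 ∨ y = x := by
  constructor
  · rintro ⟨n, rfl⟩
    have h2 : x ^ (2 : ℤ) = 1 := by exact_mod_cast hx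
    rcases Int.even_or_odd' n with ⟨c, rfl | rfl⟩
    · left
      show x ^ (2 * c) = 1
      rw [zpow_mul, h2, one_zpow]
    · right
      show x ^ (2 * c + 1) = x
      rw [zpow_add, zpow_mul, h2, one_zpow, one_mul, zpow_one]
  · rintro (rfl | rfl)
    · exact one_mem _
    · exact mem_zpowers _

omit [Finite G] in
theorem le_YL_of {ι : Type} {W : ι → Subgroup G} {ZJ : Subgroup G} {L : ι → Subgroup G} {L' : Subgroup G} {i : ι}
    (h : L' ≤ L i ⊔ centralizer ((W i ⊔ ZJ : Subgroup G) : Set G)) : L' ≤ YL ZJ L i := by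
  refine h.trans (sup_le le_sup_right (le_sup_of_le_left (centralizer_le ?_)))
  exact_mod_cast (le_sup_right : ZJ ≤ W i ⊔ ZJ)

/-! ### Levels -/

section lev

variable {S : Sylow 2 G} {P : Subgroup G}

/-- **The instance at a level `K₀`.** -/
theorem exists_lx_lev (h : HypN S P) {K₀ : Subgroup G} (hw : NO3b.Wc.WC (S : Subgroup G) K₀)
    (hL : Lev (S : Subgroup G) K₀) (hK : K₀ ≤ o2 P)
    (hJ : ∃ A ∈ BO (S : Subgroup G) K₀, ¬ A ≤ o2 P) {k m : ℕ} (hk : 0 < k) (hm : 2 ≤ m)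
    (N : SymKM (S : Subgroup G) P (zl (S : Subgroup G) P) (cv (S : Subgroup G) P) k m) :
    Nonempty (LX S P ((S : Subgroup G) ⊓ centralizer (zc (nxt (S : Subgroup G) K₀) : Set G))
      (zc (nxt (S : Subgroup G) K₀)) (zc K₀) N) := by
  have hG := h.ctx.char2
  have hcen := h.toHyp.inf_eq_bot
  have hm1 : 1 ≤ m := by omega
  obtain ⟨hx, hc⟩ := NO3S.OneLine.exa_lev FF.Glob.ffthmM hG h.star hL hK hcen hJ
  have e1 := (NO3S.OneLine.lev_eq FF.Glob.ffthmM hG h.star hL hK hcen hJ).2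
  have e2 : Lev.SIn.ZJ (zl (S : Subgroup G) P) (nxt (S : Subgroup G) K₀) = zc (nxt (S : Subgroup G) K₀) := e1.symm
  obtain ⟨ι, J, U, Y, t, r, h0, Lb, A, c, hs, hLb, hcj, hAJ, hF⟩ := Lev.Sym.exists_frame hx hk hm1 N
    (hx.cv_eq_bot_sym N) (hx.zc_o2_sym N hk hm1) (NO3S.Level.nxt_le _ _) (Lev.Sym.nxt_norm hL)
    (fun A hA => NO3S.Level.BO.le_nxt hA) (Lev.Sym.nxt_le_sup _ _)
  rw [e2] at hLb hF
  have hfin : Finite ι := hs.bau.finite_index
  have hB2 : IsPGroup 2 ↥((S : Subgroup G) ⊓ centralizer (zc (nxt (S : Subgroup G) K₀) : Set G)) :=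
    S.isPGroup'.to_le inf_le_left
  have hWC := Lev.Wc.wc_cent_Lev hL.next
    (rfl : (S : Subgroup G) ⊓ centralizer (zc (nxt (S : Subgroup G) K₀) : Set G) = _)
  have h5 : 5 ≤ 2 ^ m + 1 := by
    have h6 : 2 ^ 2 ≤ 2 ^ m := Nat.pow_le_pow_right (by norm_num) hm
    omega
  have hu : ∀ L' V' : Subgroup G,
      FBX ((S : Subgroup G) ⊓ centralizer (zc (nxt (S : Subgroup G) K₀) : Set G)) (zc K₀) L' V' →
      ∃ i, V' = h0.NN (J i) 0 (U i) (Y i) ∧ L' ≤ Lb i ⊔ centralizer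
        ((h0.NN (J i) 0 (U i) (Y i) ⊔ zc (nxt (S : Subgroup G) K₀) : Subgroup G) : Set G) := fun L' V' h' =>
    uniTwoX S hL rfl rfl hF h'
  refine ⟨{
    Xf := zc K₀
    ι := ι
    J := J
    U := U
    Y := Y
    L := Lb
    W := fun i => h0.NN (J i) 0 (U i) (Y i)
    C := _
    A := A
    fi := hfin
    ne := ?_
    three := fun hkm i j => three_of h0 c h5 ?_ i j
    prs := prs_lev h0 c
    frl := hF
    uni := fun g hg i => ?_
    uniX := hu }⟩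
  · obtain ⟨j, x, y, hxy⟩ := h0.exists_tr
    obtain ⟨i, -⟩ := c.ex _ _ _ hxy
    exact ⟨i⟩
  · rcases hkm with h1 | h1
    · exact Or.inl h1
    · right
      have h6 : 2 ^ 3 ≤ 2 ^ m := Nat.pow_le_pow_right (by norm_num) h1
      omega
  · have hX : g ∈ normalizer (zc K₀ : Set G) := NO3S.Level.normalizer_le_zc _ (Lev.Wc.norm_B_Lev hL rfl hg)
    have hb : FBl ((S : Subgroup G) ⊓ centralizer (zc (nxt (S : Subgroup G) K₀) : Set G)) (Lb i)
        (h0.NN (J i) 0 (U i) (Y i)) :=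
      ⟨⟨_, _, hF.blk i⟩, (hF.blk i).toBlock (hF.cardZ i) hB2 (Node.MulG.lb_nxt hw).weakNormal⟩
    obtain ⟨j, h1, h2⟩ := hu _ _ ⟨hb.conj hg, by
      rw [← cj_eq_of_mem_normalizer hX]
      exact cj_mono g ((hF.WV i).trans hF.VX)⟩
    exact ⟨j, h1, le_YL_of (W := fun i => h0.NN (J i) 0 (U i) (Y i)) h2⟩

/-- `nxt S K₀ ≰ O₂(P)` gives a best offender. -/
theorem exists_BO_top (hG : IsCharacteristicTwoType G) (hP : IsParS (S : Subgroup G) P) {K₀ : Subgroup G}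
    (h : Top S P K₀) : ∃ A ∈ BO (S : Subgroup G) K₀, ¬ A ≤ o2 P := by
  by_contra hcon
  push Not at hcon
  apply h.nxt
  refine sup_le ?_ (sSup_le hcon)
  have h3 : zl (S : Subgroup G) P ≤ zc K₀ :=
    (hP.isLoc.zl_le S hG).trans (h.lev.zc_o2_le h.le (hP.isLoc.o2_le S))
  rw [← IsParS.inf_centralizer S hG hP]
  exact inf_le_inf_left _ (centralizer_le h3)

/-- **The instance at the stage `Top`.** -/
theorem exists_lx_top (h : HypN S P) {K₀ : Subgroup G} (hT : Top S P K₀) {k m : ℕ} (hk : 0 < k) (hm : 2 ≤ m)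
    (N : SymKM (S : Subgroup G) P (zl (S : Subgroup G) P) (cv (S : Subgroup G) P) k m) :
    Nonempty (LX S P ((S : Subgroup G) ⊓ centralizer (zc (nxt (S : Subgroup G) K₀) : Set G))
      (zc (nxt (S : Subgroup G) K₀)) (zc K₀) N) :=
  exists_lx_lev h hT.wc hT.lev hT.le (exists_BO_top h.ctx.char2 h.star hT) hk hm N

/-- **The instance in the case (L).** -/
theorem exists_lx_caseL (h : CaseL S P) {k m : ℕ} (hk : 0 < k) (hm : 2 ≤ m)
    (N : SymKM (S : Subgroup G) P (zl (S : Subgroup G) P) (cv (S : Subgroup G) P) k m) :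
    Nonempty (LX S P ((S : Subgroup G) ⊓ centralizer (zc (nxt (S : Subgroup G) (o2 P)) : Set G))
      (zc (nxt (S : Subgroup G) (o2 P))) (zl (S : Subgroup G) P) N) := by
  have h1 := exists_lx_lev h.hypN h.wc h.levQ le_rfl (exists_BO_caseL h) hk hm N
  rwa [h.zc_eq] at h1

end lev

/-! ### Stage `-1` -/

section neg

variable {S : Sylow 2 G} {P : Subgroup G}

/-- **The instance at the stage `-1`**, UNI+ for all FF-blocks over `B`. -/
theorem exists_lx_neg (h : HypJ S P) {k m : ℕ} (hk : 0 < k) (hm : 2 ≤ m)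
    (N : SymKM (S : Subgroup G) P (zl (S : Subgroup G) P) (cv (S : Subgroup G) P) k m) (X : Subgroup G) :
    Nonempty (LX S P (bau (S : Subgroup G)) (zj (S : Subgroup G)) X N) := by
  obtain ⟨l⟩ := ESym.Light.exists_neg h hk hm N
  have h5 : 5 ≤ 2 ^ m + 1 := by
    have h6 : 2 ^ 2 ≤ 2 ^ m := Nat.pow_le_pow_right (by norm_num) hm
    omega
  have lb : LB S (jj (S : Subgroup G)) (bau (S : Subgroup G)) (zj (S : Subgroup G)) := LB.neg S
  refine ⟨{
    Xf := l.Xf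
    ι := l.ι
    J := l.J
    U := l.X
    Y := l.X'
    L := l.L
    W := fun i => l.sy.NN (l.J i) 0 (l.X i) (l.X' i)
    C := _
    A := l.A
    fi := l.fi
    ne := ?_
    three := fun hkm i j => three_of l.sy l.ch h5 ?_ i j
    prs := prs_lev l.sy l.ch
    frl := l.frl
    uni := fun g hg i => ?_
    uniX := fun L' V' h' => l.uni L' V' h'.1 }⟩
  · obtain ⟨j, x, y, hxy⟩ := l.sy.exists_tr
    obtain ⟨i, -⟩ := l.ch.ex _ _ _ hxy
    exact ⟨i⟩
  · rcases hkm with h1 | h1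
    · exact Or.inl h1
    · right
      have h6 : 2 ^ 3 ≤ 2 ^ m := Nat.pow_le_pow_right (by norm_num) h1
      omega
  · have hb : FBl (bau (S : Subgroup G)) (l.L i) (l.sy.NN (l.J i) 0 (l.X i) (l.X' i)) :=
      ⟨⟨_, _, l.frl.blk i⟩, (l.frl.blk i).toBlock (l.frl.cardZ i) lb.Bp lb.weakNormal⟩
    obtain ⟨j, h1, h2⟩ := l.uni _ _ (hb.conj hg)
    exact ⟨j, h1, le_YL_of (W := fun i => l.sy.NN (l.J i) 0 (l.X i) (l.X' i)) h2⟩

end neg

/-! ### The end -/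

namespace LX

variable {S : Sylow 2 G} {P B ZJ X : Subgroup G} {k m : ℕ}
  {N : SymKM (S : Subgroup G) P (zl (S : Subgroup G) P) (cv (S : Subgroup G) P) k m} (l : LX S P B ZJ X N)

/-- the light vectors -/
noncomputable def d (i : l.ι) : G := u P (zl (S : Subgroup G) P) ⊥ N.e (l.J i) (l.U i) (l.Y i)

/-- **The frame `Zf`.** -/
theorem zf {K' : Subgroup G} (hG : IsCharacteristicTwoType G) (lb : LB S K' B ZJ) :
    Zf B (o2 P) (zl (S : Subgroup G) P) l.Xf ZJ l.L l.W (fun i => zpowers (l.d i)) l.C l.A l.d where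
  hG := hG
  fr := l.frl
  hz := fun i x => by
    refine mem_zpowers_two (SQ1.Bau.elem_sq l.frl.elX _ (l.frl.VX ?_))
    exact l.frl.ZV i (mem_zpowers _)
  Bp := lb.Bp
  syl R hR hR2 hBR := by
    have hSZ : (S : Subgroup G) ≤ normalizer (ZJ : Set G) :=
      (le_normalizer (H := (S : Subgroup G))).trans
        (lb.nrm _ S.isPGroup' ((lb.KB.trans lb.eqB.le).trans inf_le_left))
    exact ((OM.WOneG.syl_B S lb.eqB hSZ).2.2 R hR hR2 hBR).le
  uni g hg i := by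
    obtain ⟨j, hj, -⟩ := l.uni g hg i
    refine ⟨j, ?_, hj.le.trans le_sup_left⟩
    have e1 : cj g ⁅l.W i, B⁆ = ⁅cj g (l.W i), cj g B⁆ := Subgroup.map_commutator _ _ _
    have e2 := l.frl.comm_W i
    have e3 := l.frl.comm_W j
    show cj g (zpowers (l.d i)) = zpowers (l.d j)
    have e4 : ⁅l.W i, B⁆ = zpowers (l.d i) := e2
    have e5 : ⁅l.W j, B⁆ = zpowers (l.d j) := e3
    rw [← e4, e1, cj_eq_of_mem_normalizer hg, hj, e5]

/-- `N_G(B)` permutes the `⟨C_G(ZJ), L i⟩` as the light vectors. -/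
theorem cjY (g : G) (hg : g ∈ normalizer (B : Set G)) (i j : l.ι) (hij : g * l.d i * g⁻¹ = l.d j) :
    cj g (l.L i) ≤ YL ZJ l.L j := by
  obtain ⟨j', h1, h2⟩ := l.uni g hg i
  have hm : ∀ i, l.d i ∈ l.W i := fun i => (l.frl.blk i).ZV (mem_zpowers _)
  have h3 : l.d j ∈ l.W j' := by
    rw [← h1, ← hij]
    exact ⟨_, hm i, rfl⟩
  have h4 : j' = j := by
    by_contra hne
    have h5 : l.d j ∈ l.W j' ⊓ l.C j' := ⟨h3, l.frl.WjC j' j hne (hm j)⟩
    rw [l.frl.dir j', mem_bot] at h5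
    have h6 := l.frl.cardZ j
    have h7 : zpowers (l.d j) = ⊥ := zpowers_eq_bot.2 h5
    change Nat.card ↥(zpowers (l.d j)) = 2 at h6
    rw [h7, Subgroup.card_bot] at h6
    omega
  rw [← h4]
  exact h2

theorem tr (i j : l.ι) : ∃ g, ∃ π : Equiv.Perm l.ι, (∀ a, g * l.d a * g⁻¹ = l.d (π a)) ∧ π i = j := by
  have := l.fi
  obtain ⟨g, -, π, h1, h2⟩ := l.prs.trans i j
  exact ⟨g, π, h2, h1⟩

theorem sw (hm : 2 ≤ m) (i j : l.ι) (hij : i ≠ j) : ∃ g, ∃ π : Equiv.Perm l.ι,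
    (∀ a, g * l.d a * g⁻¹ = l.d (π a)) ∧ ((π i = i ∧ π j ≠ j) ∨ (π i = j ∧ π j = i)) := by
  have := l.fi
  have h6 : 2 ^ 2 ≤ 2 ^ m := Nat.pow_le_pow_right (by norm_num) hm
  rcases l.prs.sw (by omega) hij with ⟨g, -, π, h1, h2, h3⟩ | ⟨g, -, π, h1, h2, h3⟩
  · exact ⟨g, π, h3, Or.inl ⟨h1, h2⟩⟩
  · exact ⟨g, π, h3, Or.inr ⟨h1, h2⟩⟩

/-- **THEOREM S''**: if no nontrivial 2-group is normalised by all `⟨C_G(ZJ), L i⟩`: contradiction for `k ≥ 2` or
`m ≥ 3`. -/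
theorem false_of {K' : Subgroup G} (hG : IsCharacteristicTwoType G) (lb : LB S K' B ZJ)
    (hML : ML.Final.MLK.{u, u}) (hK : IsKProper G) (hm : 2 ≤ m) (hkm : 2 ≤ k ∨ 3 ≤ m)
    (nl : ∀ U : Subgroup G, U ≠ ⊥ → IsPGroup 2 U → ¬ ∀ i, YL ZJ l.L i ≤ normalizer (U : Set G)) : False := by
  have := l.fi
  have := l.ne
  exact (l.zf hG lb).false_of hML hK l.cjY nl (l.three hkm) l.tr (l.sw hm)

/-- `KX ≤ ⟨Y i⟩` -/
theorem KX_le : KX B ZJ X ≤ ⨆ i, YL ZJ l.L i := by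
  obtain ⟨i₀⟩ := l.ne
  refine sup_le ((D_le_YL i₀).trans (le_iSup (fun i => YL ZJ l.L i) i₀)) (iSup_le fun i => ?_)
  obtain ⟨j, -, h1⟩ := l.uniX _ _ i.2
  exact (le_YL_of h1).trans (le_iSup (fun i => YL ZJ l.L i) j)

include l in
/-- **The case (E) is impossible**, `KX` nonlocal. -/
theorem false_of_nloc {K' : Subgroup G} (hG : IsCharacteristicTwoType G) (lb : LB S K' B ZJ)
    (hML : ML.Final.MLK.{u, u}) (hK : IsKProper G) (hm : 2 ≤ m) (hkm : 2 ≤ k ∨ 3 ≤ m)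
    (hN : NLoc (KX B ZJ X)) : False :=
  l.false_of hG lb hML hK hm hkm fun U hU hU2 hn => hU (hN U hU2 (l.KX_le.trans (iSup_le hn)))

end LX

/-! ### The socket `ESX` -/

section socket

variable {K : Cls.{u}}

/-- **The case (E) of `CaseL`, symmetric blocks, at least three light pairs.** -/
theorem eSX (hML : ML.Final.MLK.{u, u}) {c : ℕ → ℕ → Prop} (hc : ∀ k m, c k m → 2 ≤ k ∨ 3 ≤ m) : ESX K c := by
  intro G _ _ hK S P B ZJ ι L W Z C A k m hk hm hkm hM hN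
  exfalso
  obtain ⟨N⟩ := hM.sym
  have lb := hM.lb
  rw [← hM.KX_eq] at hN
  obtain ⟨hcl, eZ, eB, -, -, -, -⟩ := hM
  obtain ⟨l⟩ := exists_lx_caseL hcl hk hm N
  subst eZ
  subst eB
  exact l.false_of_nloc hcl.ctx.char2 lb hML hcl.ctx.kproper hm (hc k m hkm) hN

/-- **`SymBigH K CaseLP`** from (Om). -/
theorem symBigX (hML : ML.Final.MLK.{u, u}) (hO : OmSX K fun k m => k = 1 ∧ 3 ≤ m) : SymBigH K CaseLP :=
  symBigX_of hO (eSX hML fun _ _ h => Or.inr h.2)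

/-- **`SymManyH K CaseLP`** from (Om). -/
theorem symManyX (hML : ML.Final.MLK.{u, u}) (hO : OmSX K fun k _ => 2 ≤ k) : SymManyH K CaseLP :=
  symManyX_of hO (eSX hML fun _ _ h => Or.inl h)

end socket

end Cfsg.Agent.Omega.EDel

end
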